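import Cfsg.Agent.Lib.H9.G3P

/-! Non-normal essential subgroups in sectional rank three. -/

set_option autoImplicit false
set_option linter.unusedSectionVars false
set_option linter.style.haveILetI false
set_option linter.unusedSimpArgs false

open Subgroup
open scoped commutatorElement

namespace Cfsg.Agent.H9
open Cfsg.Agent.H1 Cfsg.Agent.H7 FusionSystem

variable {p : ℕ} {Ω : Type*} [Group Ω] {S : Subgroup Ω} {F : FusionSystem S} {E : Subgroup Ω}
  {M : Subgroup (MulAut E)} [hp : Fact p.Prime] [Finite S]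

theorem EssCtx.mem_inn_normalizerIn (h : EssCtx p F E M) {β : MulAut (normalizerIn S E)}
    (hβ : β ∈ F.autGroup (normalizerIn S E)) (hk : ∃ k, β ^ p ^ k = 1)
    (hE : ∀ x ∈ E.subgroupOf (normalizerIn S E), β x ∈ E.subgroupOf (normalizerIn S E)) :
    β ∈ Inn (normalizerIn S E) := by
  obtain ⟨k, hk⟩ := hk
  have hEN : E ≤ normalizerIn S E := le_normalizerIn h.le
  obtain ⟨Q, hc, hQ, -⟩ := h.sat _ (normalizerIn_le (P := E))
  obtain ⟨f, hf, e⟩ := hQ.exists_isIso_conj hc (isPGroup_zpowers_of_pow hk) (zpowers_le.2 hβ)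
  obtain ⟨b, hb, e⟩ := e β (mem_zpowers β)
  have h1 := hf.mor.isIso_img_of_le hEN
  have := FusionSystem.finite_of_le h1.le_right
  have h2 : Q = normalizerIn S (img E f) := eq_of_le_of_card_ge (fun y hy => by
    obtain ⟨x, hx, rfl⟩ := hf.surj y hy
    exact ⟨hf.mor.mem hx, h1.map_mem_normalizer hf.mor hEN hx hx.2⟩)
    (hf.card_eq ▸ h.ess.2.1.2 _ h1.isConj)
  obtain ⟨a, ha, rfl⟩ := hf.surj b (h2 ▸ ⟨hb.1, mem_normalizer_of_conj_mem fun y hy => by
    obtain ⟨x, hx, rfl⟩ := h1.surj y hy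
    rw [← e x (hEN hx), equivFun_of_mem _ (hEN hx)]
    exact h1.mapsTo _ (hE ⟨x, hEN hx⟩ hx)⟩)
  refine mem_inn_iff.2 ⟨a, ha, fun x => hf.mor.inj (β x).2
    (mul_mem (mul_mem ha x.2) (inv_mem ha)) ?_⟩
  rw [hf.mor.map_conj ha x.2, ← e x x.2, equivFun_of_mem _ x.2]

theorem EssCtx.nonnormal (h : EssCtx p F E M) (h5 : 5 ≤ p) (hr : SR p 3 (normalizerIn S E))
    (hne : ¬ S ≤ normalizer (E : Set Ω)) : (IsElementaryAbelian p E ∧ Nat.card E = p ^ 2) ∨
      ∃ x ∈ S, x ∈ normalizer (normalizerIn S E : Set Ω) ∧ x ∉ normalizerIn S E ∧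
      ∃ T₀ R : Subgroup Ω, T₀ ≤ R ∧ R ≤ normalizerIn S E ⊔ zpowers x ∧ Phi p R ≤ T₀ ∧
        T₀.relIndex R = p ^ 4 ∧ Nat.card E = Nat.card T₀ * p ^ 3 ∧ ¬ R ≤ normalizerIn S E ∧
        ∀ e ∈ E, x⁻¹ * e * x ∈ E → e ∈ R := by
  have hodd : Odd p := hp.out.odd_of_ne_two (by omega)
  set N := normalizerIn S E with hN
  have hEN : E ≤ N := le_normalizerIn h.le
  have hNS : N ≤ S := normalizerIn_le
  obtain ⟨x, hxS, hxN, hn, hxp⟩ := exists_mem_normalizer_not_mem h.hS hNS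
    fun e => hne (e.trans normalizerIn_le_normalizer)
  let σ := conjAut N hn
  have hσ : ∀ g : N, (σ g : Ω) = x * g * x⁻¹ := fun _ => rfl
  have hne' : E.subgroupOf N ≠ (E.subgroupOf N).map (σ : N →* N) := fun e => hxN ⟨hxS, by
    have := h.finite
    exact mem_normalizer_of_conj_mem fun y hy =>
      (e.ge (mem_map_of_mem _ (show (⟨y, hEN hy⟩ : N) ∈ E.subgroupOf N from hy)) :)⟩
  rcases h.dichotomy hodd hN.symm hr with ⟨n, m, t, hs⟩ | ⟨W, hW⟩
  swap
  · exact absurd (hW.unique (hW.map σ) hr) hne'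
  obtain ⟨E₂, n₂, m₂, t₂, T, c, H⟩ := exists_nr hs hr (F.conjAut_mem_autGroup hNS hxS hn)
    ((exists_pow_eq_one h.hS hxS).imp fun k hk => conjAut_pow_eq_one hn hk) hne'
    fun β => h.mem_inn_normalizerIn
  have hMS : N ⊔ zpowers x ≤ S := sup_le hNS (zpowers_le.2 hxS)
  have := FusionSystem.finite_of_le hMS
  have hcen := h.ess.1.mono hEN hNS
  let ι := inclusion (le_sup_left : N ≤ N ⊔ zpowers x)
  rcases H.final h5 (h.hS.to_le hMS) (ι := ι) (inclusion_injective _)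
    (x := ⟨x, mem_sup_right (mem_zpowers x)⟩) (fun g => rfl)
    (by rw [inclusion_range]; exact relIndex_sup_zpowers hn hxN hxp)
    (by rw [inclusion_range]; exact hxN) (fun τ hτ g μ e => by
      have hR : zpowers x ≤ normalizerIn S N := zpowers_le.2 ⟨hxS, hn⟩
      have e' : τ * σ * τ⁻¹ ∈ autInducedBy S N := e ▸ mul_mem (inn_le_autInducedBy hNS ⟨g, rfl⟩)
        (pow_mem (conjAut_mem_autInducedBy hxS hn) μ)
      obtain ⟨f, hf, ef⟩ := (h.sat.isReceptive_of_centric h.hS hcen).exists_ext_aut hτ hR (by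
        rintro _ ⟨i, rfl⟩
        rw [conjAut_zpow hn, ← conj_zpow]
        exact zpow_mem e' i)
      have ef' : ∀ y : N, f y = τ y := fun y => by rw [ef y y.2, equivFun_of_mem _ y.2]
      obtain ⟨hn', e2⟩ := IsMor.conjAut_eq hf le_sup_left ef' (mem_sup_right (mem_zpowers x)) hn
      have hg : (g : Ω) ∈ normalizer (N : Set Ω) := le_normalizer g.2
      have k1 : (x ^ μ)⁻¹ * f x ∈ N := by
        refine (hcen.conjAut_mem_inn_iff (mul_mem (inv_mem (pow_mem hxS μ))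
          (hf.mem (mem_sup_right (mem_zpowers x)))) (mul_mem (inv_mem (pow_mem hn μ)) hn')).1 ?_
        rw [conjAut_mul (inv_mem (pow_mem hn μ)) hn', conjAut_inv (pow_mem hn μ), conjAut_pow hn, e2, e]
        simpa [σ, mul_assoc] using (normalIn_inn (A := ⊤) le_top).2 (σ ^ μ)⁻¹ trivial _
          (⟨g, rfl⟩ : MulAut.conj g ∈ Inn N)
      have k2 : ∀ y ∈ N ⊔ zpowers x, f y ∈ N ⊔ zpowers x := hf.isHomOn.mapsTo_sup
        (fun y hy => mem_sup_left (ef' ⟨y, hy⟩ ▸ (τ ⟨y, hy⟩).2)) (by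
          rintro _ ⟨i, rfl⟩
          rw [hf.map_zpow (mem_sup_right (mem_zpowers x))]
          have k3 : x ^ μ * ((x ^ μ)⁻¹ * f x) ∈ N ⊔ zpowers x :=
            mul_mem (mem_sup_right (pow_mem (mem_zpowers x) μ)) (mem_sup_left k1)
          exact zpow_mem (by simpa using k3) i)
      exact ⟨hf.isHomOn.toHom.codRestrict _ fun y => k2 y y.2, fun y => Subtype.ext (ef' y),
        by rw [inclusion_range]; exact k1⟩) with ⟨h1, h2⟩ | ⟨T₀, R, h1, h2, h3, h4, h6, h7⟩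
  · rw [← Phi_eq_bot_iff, ← Phi_subgroupOf_of_le hEN, subgroupOf_eq_bot] at h1
    exact Or.inl ⟨Phi_eq_bot_iff.1 (h1.eq_bot_of_le ((Phi_le E).trans hEN)),
      card_subgroupOf_of_le hEN ▸ h2⟩
  · refine Or.inr ⟨x, hxS, hn, hxN, T₀.map (Subgroup.subtype _), R.map (Subgroup.subtype _), map_mono h1,
      map_subtype_le _, by rw [← map_Phi]; exact map_mono h2,
      by rwa [relIndex_map_map_of_injective _ _ (subtype_injective _)],
      by rwa [card_map_of_injective (subtype_injective _), ← card_subgroupOf_of_le hEN],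
      fun e => h7 fun y hy => ?_, fun e he he' => ?_⟩
    · rw [inclusion_range]; exact e (mem_map_of_mem _ hy)
    · refine ⟨_, h6 (mem_map_of_mem _ (x := ⟨e, hEN he⟩) ⟨he, ?_⟩), rfl⟩
      rw [H.E₂_eq]
      exact ⟨⟨_, hEN he'⟩, he', Subtype.ext (by simp [hσ, mul_assoc])⟩

theorem pearl_of_nonnormal (hS : IsPGroup p S) (hF : F.IsSaturated p) (h5 : 5 ≤ p) (hr : SR p 3 S)
    (hE : F.IsEssential p E) (hne : ¬ S ≤ normalizer (E : Set Ω)) :
    IsElementaryAbelian p E ∧ Nat.card E = p ^ 2 := by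
  obtain ⟨M, h⟩ := exists_essCtx hS hF hE
  rcases h.nonnormal h5 (hr.of_injective _ (inclusion_injective normalizerIn_le)) hne with
    h1 | ⟨x, hx, -, -, T₀, R, h1, h2, h3, h4, -⟩
  · exact h1
  have hR : R ≤ S := h2.trans (sup_le normalizerIn_le (zpowers_le.2 hx))
  have := hr (R.subgroupOf S) (T₀.subgroupOf S) (comap_mono h1)
    (Phi_subgroupOf_of_le (p := p) hR ▸ comap_mono h3)
  rw [relIndex_subgroupOf hR, h4, Nat.pow_le_pow_iff_right hp.out.one_lt] at this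
  omega

end Cfsg.Agent.H9
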