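import Cfsg.Agent.Lib.H9.Black
import Cfsg.Agent.Lib.H9.G3Q

/-!
# Essential subgroups of order `p ^ 3` in a `p`-group of maximal class
-/

set_option autoImplicit false
set_option linter.unusedSectionVars false

open Subgroup
open scoped commutatorElement

namespace Cfsg.Agent.H9

open Cfsg.Agent.H1 Cfsg.Agent.H7 FusionSystem

namespace MaxCl

variable {G : Type*} [Group G] {p : ℕ} [hp : Fact p.Prime] {S : Subgroup G} [Finite S] {n : ℕ}
  {w : G} {k : ℕ}

local notation "L" => Subgroup.lowerCentralSeries S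

theorem comm_lcs (h : MaxCl p S n) {i j : ℕ} {a b : G} (ha : a ∈ L i) (hb : b ∈ L j)
    (hn : n ≤ i + j + 2) : a * b = b * a :=
  commutatorElement_eq_one_iff_mul_comm.1 (mem_bot.1 (h.eq_bot hn ▸ commutator_mem_lcs_add ha hb))

theorem card_gam (h : MaxCl p S n) (h4 : 4 ≤ n) : Nat.card (gam S) = p ^ (n - 1) :=
  card_eq_of_relIndex (b := 1) gam_le hp.out.pos (by rw [h.card]; congr 1; omega)
    (by rw [h.relIndex_gam h4, pow_one])

theorem step_gam (h : MaxCl p S n) (h5 : 5 ≤ p) (hw : w ∈ S) (hw' : w ∉ gam S) (hk : 1 ≤ k)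
    (hn : k + 4 ≤ n) {y : G} (hy : y ∈ L k) (h1 : ⁅y, w⁆ ∈ L (k + 2)) : y ∈ L (k + 1) :=
  h.step_of_not_mem hk hw (h.not_mem_cst (h.twoStep h5) (by omega) hk hn hw') hy h1

theorem mem_of_comm_mem (h : MaxCl p S n) (h5 : 5 ≤ p) (hw : w ∈ S) (hw' : w ∉ gam S)
    (hn : k + 3 ≤ n) {y : G} (hy : y ∈ L 1) (h1 : ⁅y, w⁆ ∈ L (k + 1)) : y ∈ L k := by
  by_contra h4
  obtain ⟨j, h5', -, h6, h7⟩ := h.exists_level (lcs_le S 1 hy) h4
  have h8 : 1 ≤ j := Nat.pos_of_ne_zero (by rintro rfl; exact h7 hy)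
  exact h7 (h.step_gam h5 hw hw' h8 (by omega) h6 (lcs_anti S (by omega) h1))

theorem pow_mem_tw (h : MaxCl p S n) (h5 : 5 ≤ p) (hw : w ∈ S) (hw' : w ∉ gam S)
    (hn : k + 3 ≤ n) : w ^ p ∈ L k :=
  h.mem_of_comm_mem h5 hw hw' hn (h.pow_mem_one hw) (commutator_mem_of_comm _ (Commute.pow_self w p))

theorem mem_of_mem_tw (h : MaxCl p S n) (h5 : 5 ≤ p) (hw : w ∈ S) (hw' : w ∉ gam S) (hk : 1 ≤ k)
    (hn : k + 3 ≤ n) {x : G} (hx : x ∈ L k ⊔ zpowers w) (hx1 : x ∈ gam S) : x ∈ L k := by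
  obtain ⟨y, hy, i, rfl⟩ := (mem_sup_zpowers (lcs_norm S k hw)).1 hx
  obtain ⟨j, rfl⟩ := (zpow_mem_iff_dvd hw' (one_le_gam (h.pow_mem_one hw))).1
    ((mul_mem_cancel_left (one_le_gam (lcs_anti S hk hy))).1 hx1)
  rw [zpow_mul, zpow_natCast]
  exact mul_mem hy (zpow_mem (h.pow_mem_tw h5 hw hw' hn) j)

theorem card_tw (h : MaxCl p S n) (h5 : 5 ≤ p) (hw : w ∈ S) (hw' : w ∉ gam S) (hk : 1 ≤ k)
    (hn : k + 3 ≤ n) : Nat.card (L k ⊔ zpowers w : Subgroup G) = p ^ (n - k) := by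
  rw [H9.card_sup_zpowers (lcs_norm S k hw) (fun e => hw' (one_le_gam (lcs_anti S hk e)))
    (h.pow_mem_tw h5 hw hw' hn), h.card_lcs hk (by omega), ← pow_succ]
  congr 1; omega

omit hp [Finite S] in
theorem tw_le (hw : w ∈ S) (k : ℕ) : L k ⊔ zpowers w ≤ S := sup_le (lcs_le S k) (zpowers_le.2 hw)

omit hp [Finite S] in
theorem tw_anti {i j : ℕ} (h : i ≤ j) : L j ⊔ zpowers w ≤ L i ⊔ zpowers w :=
  sup_le_sup_right (S.lowerCentralSeries_antitone h) _

theorem normalizer_tw (h : MaxCl p S n) (h5 : 5 ≤ p) (hw : w ∈ S) (hw' : w ∉ gam S) (hk : 1 ≤ k)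
    (hn : k + 4 ≤ n) : normalizerIn S (L (k + 1) ⊔ zpowers w) = L k ⊔ zpowers w := by
  have := finite_of_le (tw_le hw k)
  refine le_antisymm (fun g hg => ?_) (le_inf (tw_le hw k) (le_normalizer_of_relIndex_eq
    (h.hS.to_le (tw_le hw k)) (tw_anti (Nat.le_succ k)) ?_))
  · have key : ∀ g ∈ normalizerIn S (L (k + 1) ⊔ zpowers w), ⁅g, w⁆ ∈ L (k + 1) := fun g hg =>
      h.mem_of_mem_tw h5 hw hw' (by omega) hn (mul_mem (H9.conj_mem_of_mem_normalizer hg.2
        (mem_sup_right (mem_zpowers w))) (inv_mem (mem_sup_right (mem_zpowers w))))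
        (one_le_gam (commutator_mem_lcs (k := 0) hg.1 hw))
    obtain ⟨y, hy, i, rfl⟩ := (mem_sup_zpowers (lcs_norm S 1 hw)).1 (h.mem_sup_of_comm hw
      (fun e => hw' (one_le_gam e)) hg.1 (lcs_anti S (by omega) (key g hg)))
    exact mul_mem (mem_sup_left (h.mem_of_comm_mem h5 hw hw' (by omega) hy (key y
      ((mul_mem_cancel_right (zpow_mem (le_normalizerIn (tw_le hw _)
        (mem_sup_right (mem_zpowers w))) i)).1 hg)))) (mem_sup_right (zpow_mem_zpowers w i))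
  · have := relIndex_eq_of_card (tw_anti (Nat.le_succ k)) (a := n - (k + 1)) (b := 1) hp.out.pos
      (by rw [h.card_tw h5 hw hw' hk (by omega)]; congr 1; omega) (h.card_tw h5 hw hw' (by omega) hn)
    rwa [pow_one] at this

theorem exists_conj_tw (h : MaxCl p S n) (h5 : 5 ≤ p) (h4 : 4 ≤ n) (hw : w ∈ S) (hw' : w ∉ gam S)
    {y : G} (hy : y ∈ L 1) : ∃ g ∈ S, (g * w * g⁻¹)⁻¹ * (y * w) ∈ L (n - 3) := by
  suffices key : ∀ j k, 1 ≤ k → n ≤ k + 3 + j → ∀ w ∈ S, w ∉ gam S → ∀ y ∈ L k,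
      ∃ g ∈ S, (g * w * g⁻¹)⁻¹ * (y * w) ∈ L (n - 3) from key n 1 le_rfl (by omega) w hw hw' y hy
  intro j
  induction j with
  | zero =>
    exact fun k _ hk w hw _ y hy => ⟨1, one_mem _, by
      simpa [mul_assoc] using H9.conj_mem_of_mem_normalizer' (lcs_norm S _ hw)
        (lcs_anti S (show n - 3 ≤ k by omega) hy)⟩
  | succ j ih =>
    intro k hk hn w hw hw' y hy
    by_cases h3 : n ≤ k + 3 + j
    · exact ih k hk h3 w hw hw' y hy
    obtain ⟨k, rfl⟩ : ∃ k', k = k' + 1 := ⟨k - 1, by omega⟩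
    obtain ⟨g, hg, hg'⟩ : ∃ g ∈ L k, ⁅g, w⁆ ∉ L (k + 2) := by
      rcases Nat.eq_zero_or_pos k with rfl | h0
      · obtain ⟨g, hg, hg'⟩ := h.exists_commutator_not_mem (k := 0) h.three hw
          fun e => hw' (one_le_gam e)
        exact ⟨g, hg, fun e => hg' (commutator_mem_comm e)⟩
      · obtain ⟨g, hg, hg'⟩ := SetLike.exists_of_lt (h.lt (k := k) (by omega))
        exact ⟨g, hg, fun e => hg' (h.step_gam h5 hw hw' h0 (by omega) hg e)⟩
    obtain ⟨c, hc⟩ := h.exists_cong hk (commutator_mem_lcs hg hw) hg' hy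
    have h6 : (⁅g, w⁆ ^ c)⁻¹ * ⁅g ^ c, w⁆ ∈ L (k + 2) := by
      simpa using commutator_lcs_bilin (l := 0) hg (one_mem _) hw (one_mem _) c 1
    have hgc := zpow_mem (lcs_le S k hg) c
    have h7 : y * ⁅g ^ c, w⁆⁻¹ ∈ L (k + 2) := by
      simpa [mul_assoc] using H9.conj_mem_of_mem_normalizer (lcs_norm S _ (lcs_le S _ hy))
        (mul_mem (inv_mem h6) hc)
    obtain ⟨g', hg1, hg2⟩ := ih (k + 2) (by omega) (by omega) _
      (mul_mem (mul_mem hgc hw) (inv_mem hgc)) (fun e => hw' (by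
        simpa [mul_assoc] using H9.conj_mem_of_mem_normalizer' (le_normalizer_of_relIndex_eq h.hS
          gam_le (h.relIndex_gam h4) hgc) e)) _ h7
    exact ⟨g' * g ^ c, mul_mem hg1 hgc, by simpa [commutatorElement_def, mul_assoc] using hg2⟩

theorem wt_all (h : MaxCl p S n) (hk : 1 ≤ k) {f : G → G} (hf : IsHomOn (L k) f)
    (hm : ∀ y ∈ L (k + 1), f y ∈ L (k + 1)) {u : G} (hu : u ∈ L k) (hu' : u ∉ L (k + 1)) {e : ℤ}
    (h1 : (u ^ e)⁻¹ * f u ∈ L (k + 1)) {y : G} (hy : y ∈ L k) : (y ^ e)⁻¹ * f y ∈ L (k + 1) := by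
  obtain ⟨c, hc⟩ := h.exists_cong hk hu hu' hy
  have hn := fun i : ℤ => lcs_norm S (k + 1) (zpow_mem (lcs_le S k hu) i)
  have h2 := inv_mem (cong_zpow (hn c) hc e)
  have h3 := cong_zpow (hn e) h1 c
  have h4 := hm _ hc
  rw [hf.map_mul (inv_mem (zpow_mem hu c)) hy, hf.map_inv (zpow_mem hu c), hf.map_zpow hu] at h4
  rw [← zpow_mul, mul_comm e] at h3
  rw [mul_inv_rev, inv_inv, ← zpow_mul] at h2
  exact cong_trans (cong_trans h2 h3) h4

end MaxCl

variable {p : ℕ} {Ω : Type*} [Group Ω] {S : Subgroup Ω} {F : FusionSystem S} {E P : Subgroup Ω}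
  [hp : Fact p.Prime] [Finite S] {n k : ℕ} {w : Ω} {f : Ω → Ω}

local notation "L" => Subgroup.lowerCentralSeries S

theorem EssCtx.relIndex_eq {M : Subgroup (MulAut E)} (h : EssCtx p F E M) (hodd : Odd p)
    (hr : (Phi p (⊤ : Subgroup E)).index ≤ p ^ 3) : E.relIndex (normalizerIn S E) = p := by
  have hEN : E ≤ normalizerIn S E := le_normalizerIn h.le
  let κ : normalizerIn S E →* MulAut E :=
    E.normalizerMonoidHom.comp (inclusion normalizerIn_le_normalizer)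
  have hκ : κ.range = autInducedBy S E := by
    ext α
    constructor
    · rintro ⟨g, rfl⟩
      exact conjAut_mem_autInducedBy g.2.1 g.2.2
    · intro hα
      obtain ⟨g, hg, hn, rfl⟩ := exists_eq_conjAut hα
      exact ⟨⟨g, hg, hn⟩, rfl⟩
  have H : ECtx p (inclusion hEN) κ M (F.autGroup E) (F.autGroup (normalizerIn S E)) := by
    refine ⟨h.hS.to_le normalizerIn_le, hodd, inclusion_injective _, fun g x => rfl,
      fun g hg => ?_, hκ ▸ h.data, hr, fun ν hν hn => ?_⟩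
    · exact ⟨⟨g, h.mem_of_comm g.2.1 fun x hx => congrArg Subtype.val (hg ⟨x, hx⟩)⟩, rfl⟩
    · obtain ⟨f, hf, e⟩ := h.exists_isIso_normalizerIn hν (hκ ▸ hn)
      exact ⟨hf.toMulEquiv, hf.toMulEquiv_mem_autGroup, fun x => Subtype.ext (e x)⟩
  have := H.index
  rwa [inclusion_range] at this

/-- An elementary abelian essential subgroup of order `p ^ 3` in a group of maximal class. -/
structure Bad (p : ℕ) (F : FusionSystem S) (n : ℕ) (E : Subgroup Ω) : Prop where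
  mc : MaxCl p S n
  h5 : 5 ≤ p
  hn : 5 ≤ n
  sat : F.IsSaturated p
  ess : F.IsEssential p E
  card : Nat.card E = p ^ 3
  comm : ∀ a ∈ E, ∀ b ∈ E, a * b = b * a
  pow : ∀ a ∈ E, a ^ p = 1

namespace Bad

variable (h : Bad p F n E)
include h

theorem odd : Odd p := hp.out.odd_of_ne_two (by have := h.h5; omega)

theorem card_N : Nat.card (normalizerIn S E) = p ^ 4 := by
  obtain ⟨M, H⟩ := exists_essCtx h.mc.hS h.sat h.ess
  have := H.finite
  rw [card_eq_relIndex_mul' (K := E), inf_eq_left.2 (le_normalizerIn H.le), h.card,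
    H.relIndex_eq h.odd (h.card ▸ Nat.le_of_dvd Nat.card_pos (index_dvd_card _)), ← pow_succ']

theorem img (hf : F.IsMor E f) : Bad p F n (img E f) := by
  refine ⟨h.mc, h.h5, h.hn, h.sat, isEssential_of_isConj_of_card h.mc.hS h.sat h.ess
    hf.isIso_img.isConj (by rw [h.card_N, h.card, ← pow_succ']), hf.card_img.trans h.card,
    fun a ha b hb => ?_, fun a ha => ?_⟩
  · obtain ⟨a, ha', rfl⟩ := hf.mem_img.1 ha
    obtain ⟨b, hb', rfl⟩ := hf.mem_img.1 hb
    rw [← hf.map_mul ha' hb', h.comm a ha' b hb', hf.map_mul hb' ha']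
  · obtain ⟨a, ha', rfl⟩ := hf.mem_img.1 ha
    rw [← hf.map_pow ha', h.pow a ha', hf.map_one]

theorem not_le_gam : ¬ E ≤ gam S := by
  intro hE
  obtain ⟨M, H⟩ := exists_essCtx h.mc.hS h.sat h.ess
  have hm := h.mc
  have hn := h.hn
  have h5 := h.h5
  have h1 := hp.out.one_lt
  have hT := hm.twoStep h5
  have := H.finite
  have hN := h.card_N
  set N := normalizerIn S E with hNe
  have := finite_of_le (normalizerIn_le : N ≤ S)
  have hle : ∀ {K : Subgroup Ω} {a : ℕ}, K ≤ N → Nat.card K = p ^ a → a ≤ 4 := fun hK hc => by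
    have := card_le_of_le' hK
    rwa [hc, hN, Nat.pow_le_pow_iff_right h1] at this
  have hZ : L (n - 2) ≤ E := hm.center_eq ▸ H.center_le
  have hne : ¬ S ≤ normalizer (E : Set Ω) := fun e => by
    have := hle (le_inf le_rfl e) hm.card; omega
  have hc : ∀ g ∈ gam S, ∀ y ∈ L (n - 4), ⁅g, y⁆ ∈ E := fun g hg y hy => hZ (lcs_anti S (by omega)
    (commutator_mem_comm (hT (n - 4) (by omega) (by omega) y hy g hg)))
  have hnorm : ∀ g ∈ S, (∀ e ∈ E, ⁅g, e⁆ ∈ E) → g ∈ N := fun g hg hc =>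
    ⟨hg, mem_normalizer_of_conj_mem fun e he => by
      simpa [commutatorElement_def] using mul_mem (hc e he) he⟩
  have c4 : Nat.card (L (n - 4)) = p ^ 3 := by
    rw [hm.card_lcs (by omega) (by omega)]; congr 1; omega
  have := finite_of_le (lcs_le S (n - 4))
  obtain ⟨w, hw, hw'⟩ := SetLike.not_le_iff_exists.1 fun e : E ≤ L (n - 4) => hne (by
    rw [eq_of_le_of_card_ge e (by rw [c4, h.card])]; exact S.self_le_normalizer_lowerCentralSeries _)
  have hwn := fun k => lcs_norm S k (H.le hw)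
  have hwp : ∀ K : Subgroup Ω, w ^ p ∈ K := fun K => h.pow w hw ▸ one_mem K
  have eN : L (n - 4) ⊔ zpowers w = N := eq_of_le_of_card_ge (sup_le (fun y hy => hnorm y
    (lcs_le S _ hy) fun e he => commutator_mem_comm (hc e (hE he) y hy))
    (zpowers_le.2 (le_normalizerIn H.le hw))) (by
      rw [H9.card_sup_zpowers (hwn _) hw' (hwp _), c4, hN, ← pow_succ])
  have eE : E ⊓ L (n - 4) ⊔ zpowers w = E := le_antisymm (sup_le inf_le_left (zpowers_le.2 hw))
    fun e he => by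
      obtain ⟨y, hy, i, rfl⟩ := (mem_sup_zpowers (hwn _)).1 (eN.ge (le_normalizerIn H.le he))
      exact mul_mem (mem_sup_left ⟨(mul_mem_cancel_right (zpow_mem hw i)).1 he, hy⟩)
        (mem_sup_right (zpow_mem_zpowers w i))
  have hg : ∀ g ∈ gam S, ⁅g, w⁆ ∈ E → g ∈ N := fun g hg e => hnorm g hg.1 fun x hx => by
    obtain ⟨y, hy, i, rfl⟩ := (mem_sup_zpowers (inf_normalizer_le_normalizer_inf
      ⟨le_normalizer hw, hwn _⟩)).1 (eE.ge hx)
    have e1 : g * (y * w ^ i) * g⁻¹ = ⁅g, y⁆ * y * (⁅g, w⁆ * w) ^ i := by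
      simp only [commutatorElement_def, inv_mul_cancel_right, conj_zpow]; group
    rw [commutatorElement_def, e1]
    exact mul_mem (mul_mem (mul_mem (hc g hg y hy.2) hy.1) (zpow_mem (mul_mem e hw) i)) (inv_mem hx)
  have hna : ¬ IsMulCommutative N := fun e => by
    have : N ≤ E := fun g hg => H.mem_of_comm hg.1 fun x hx =>
      isMulCommutative_iff_forall.1 e x (le_normalizerIn H.le hx) g hg
    have := card_le_of_le' this
    rw [hN, h.card, Nat.pow_le_pow_iff_right h1] at this; omega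
  obtain ⟨-, e⟩ | ⟨x, hx, hxn, -, T₀, R, -, hR, hΦ, hi, hT₀, hRN, hA⟩ :=
    H.nonnormal h5 (sr_of_card hN hna) hne
  · rw [h.card, Nat.pow_right_inj h1] at e; omega
  obtain rfl : T₀ = ⊥ := by
    rw [h.card, eq_comm, Nat.mul_eq_right (by positivity)] at hT₀
    exact card_eq_one.1 hT₀
  rw [relIndex_bot_left] at hi
  have hRS : R ≤ S := hR.trans (sup_le normalizerIn_le (zpowers_le.2 hx))
  have hRc : ∀ a ∈ R, ∀ b ∈ R, a * b = b * a := fun a ha b hb =>
    commutatorElement_eq_one_iff_mul_comm.1 (hΦ (commutator_mem_Phi ha hb))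
  rcases (by omega : n = 5 ∨ 6 ≤ n) with rfl | h6
  · have := finite_of_le (MaxCl.gam_le (S := S))
    have e1 : N = gam S := eq_of_le_of_card_ge (eN ▸ sup_le MaxCl.one_le_gam (zpowers_le.2 (hE hw)))
      (by rw [hm.card_gam (by omega), hN])
    have e2 : L 1 ≤ R := hm.Phi_eq ▸ Phi_le_of_relIndex_eq hm.hS hRS (by
      simpa using relIndex_eq_of_card hRS (a := 4) (b := 1) hp.out.pos hm.card hi)
    exact hRN fun r hr => e1.ge ⟨hRS hr, fun y hy => commutator_mem_of_comm _ (hRc r hr y (e2 hy))⟩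
  by_cases hC : L (n - 3) ≤ E
  · have e1 : L (n - 5) = N := eq_of_le_of_card_ge (fun g hy => hg g
      (MaxCl.one_le_gam (lcs_anti S (by omega) hy)) (hC (lcs_anti S (by omega)
        (hT (n - 5) (by omega) (by omega) g hy w (hE hw))))) (by
          rw [hN, hm.card_lcs (by omega) (by omega)]; exact le_of_eq (by congr 1; omega))
    rcases (by omega : n = 6 ∨ 7 ≤ n) with rfl | h7
    · have := hle (fun g hy => hg g hy (hC (hm.commutator_gam (by omega) hy (hE hw))))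
        (hm.card_gam (by omega))
      omega
    · have := hle (fun g hy => hg g (MaxCl.one_le_gam (lcs_anti S (by omega) hy))
        (hC (lcs_anti S (by omega) (commutator_mem_lcs_add hy (e1.ge (le_normalizerIn H.le hw))))))
        (hm.card_lcs (k := n - 6) (by omega) (by omega))
      omega
  obtain ⟨y, hy, e, he, hye⟩ : ∃ y ∈ L (n - 3), ∃ e ∈ E, ⁅y, e⁆ ≠ 1 := by
    by_contra hc
    push Not at hc
    exact hC fun y hy => H.mem_of_comm (lcs_le S _ hy) fun e he =>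
      (commutatorElement_eq_one_iff_mul_comm.1 (hc y hy e he)).symm
  have hw1 : w ∉ L 1 := fun e1 => hye (commutatorElement_eq_one_iff_mul_comm.2 (hm.comm_lcs hy
    ((sup_le (inf_le_right.trans (S.lowerCentralSeries_antitone (by omega))) (zpowers_le.2 e1) :
      E ⊓ L (n - 4) ⊔ zpowers w ≤ L 1) (eE.ge he)) (by omega)))
  have hN1 : ∀ g ∈ N, g ∈ L 1 → g ∈ L (n - 4) := fun g hg hg1 => by
    obtain ⟨y, hy, i, rfl⟩ := (mem_sup_zpowers (hwn _)).1 (eN.ge hg)
    obtain ⟨j, rfl⟩ := (zpow_mem_iff_dvd hw1 (hwp _)).1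
      ((mul_mem_cancel_left (lcs_anti S (by omega) hy)).1 hg1)
    rw [zpow_mul, zpow_natCast]
    exact mul_mem hy (zpow_mem (hwp _) j)
  have cA : Nat.card (E ⊓ L (n - 4) : Subgroup Ω) = p ^ 2 := by
    have := H9.card_sup_zpowers (K := E ⊓ L (n - 4))
      (inf_normalizer_le_normalizer_inf ⟨le_normalizer hw, hwn _⟩) (fun e => hw' e.2) (hwp _)
    rw [eE, h.card, pow_succ] at this
    exact (Nat.eq_of_mul_eq_mul_right hp.out.pos this).symm
  rcases (by omega : n = 6 ∨ 7 ≤ n) with rfl | h7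
  · have hwN := le_normalizerIn H.le hw
    have hx1 := hm.mem_sup_of_comm (H.le hw) hw1 hx (hN1 _ (mul_mem
      (H9.conj_mem_of_mem_normalizer hxn hwN) (inv_mem hwN)) (commutator_mem_lcs (k := 0) hx (H.le hw)))
    obtain ⟨r, hr, hr'⟩ := SetLike.not_le_iff_exists.1 hRN
    obtain ⟨a, ha, i, rfl⟩ := (mem_sup_zpowers (hwn _)).1 ((sup_le (eN ▸ MaxCl.tw_anti (by omega))
      (zpowers_le.2 hx1) : N ⊔ zpowers x ≤ L 1 ⊔ zpowers w) (hR hr))
    have := finite_of_le (lcs_le S 3)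
    obtain ⟨b, hb, hb'⟩ := SetLike.not_le_iff_exists.1 fun e : E ⊓ L 2 ≤ L 3 => hC
      ((eq_of_le_of_card_ge e (by rw [cA, hm.card_lcs (by omega) (by omega)])).ge.trans inf_le_left)
    have hbR := hA b hb.1 (by
      simpa [commutatorElement_def] using mul_mem (hc _ (inv_mem ((sup_le MaxCl.one_le_gam
        (zpowers_le.2 (hE hw)) : L 1 ⊔ zpowers w ≤ gam S) hx1)) b hb.2) hb.1)
    refine (hm.exc h5 (by omega) hT hy (hE he) hye).2.2 1 2 le_rfl (by omega) rfl a ha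
      (fun e => hr' (eN.le (mul_mem (mem_sup_left e) (mem_sup_right (zpow_mem_zpowers w i))))) b
      hb.2 hb' ?_
    have e1 := hRc _ hr b hbR
    rwa [mul_assoc, h.comm _ (zpow_mem hw i) b hb.1, ← mul_assoc, ← mul_assoc, mul_left_inj] at e1
  · have hg1 : L (n - 6) ≤ gam S := fun g hg => MaxCl.one_le_gam (lcs_anti S (by omega) hg)
    have := finite_of_le (inf_le_left : E ⊓ L (n - 4) ≤ E)
    have k1 := relIndex_cmod_le (H := L (n - 6)) (K := E ⊓ L (n - 4)) (N := L (n - 4)) (x := w)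
      (fun g hg => mem_normalizer_of_conj_mem fun y hy => ⟨by
        simpa [commutatorElement_def] using mul_mem (hc g (hg1 hg) y hy.2) hy.1,
        H9.conj_mem_of_mem_normalizer (lcs_norm S _ (lcs_le S _ hg)) hy.2⟩)
      fun g hg => lcs_anti S (by omega) (hT (n - 6) (by omega) (by omega) g hg w (hE hw))
    rw [relIndex_eq_of_card inf_le_right (a := 2) (b := 1) hp.out.pos c4 cA] at k1
    have k2 := card_le_of_le' (show cmod (E ⊓ L (n - 4)) w ⊓ L (n - 6) ≤ L (n - 4) from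
      fun g hg' => hN1 g (hg g (hg1 hg'.2) hg'.1.2.1) (lcs_anti S (by omega) hg'.2))
    have k3 := Nat.mul_le_mul k1 k2
    rw [← card_eq_relIndex_mul', c4, hm.card_lcs (by omega) (by omega), ← pow_add,
      Nat.pow_le_pow_iff_right h1] at k3
    omega

theorem lcs_le : L (n - 3) ≤ E ∧ ∀ y ∈ L (n - 3), ∀ e ∈ E, y * e = e * y := by
  obtain ⟨M, H⟩ := exists_essCtx h.mc.hS h.sat h.ess
  have hm := h.mc
  have hn := h.hn
  have key : ∀ w ∈ E, w ∉ gam S → w ∈ cst S (n - 3) := fun w hw hw' => by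
    by_contra hc
    have hu : Unif S n w := ⟨H.le hw, fun e => hw' (MaxCl.one_le_gam e), fun k hk hk' y hy => by
      rcases (by omega : k + 4 ≤ n ∨ k = n - 3) with h4 | rfl
      exacts [hm.step_gam h.h5 (H.le hw) hw' hk h4 hy, hm.step_of_not_mem hk (H.le hw) hc hy]⟩
    have := finite_of_le (inf_le_left : S ⊓ centralizer ({w} : Set Ω) ≤ S)
    have := card_le_of_le' (show E ≤ S ⊓ centralizer ({w} : Set Ω) from fun e he =>
      ⟨H.le he, mem_centralizer_singleton_iff.2 (h.comm e he w hw)⟩)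
    rw [h.card, hm.card_centralizer hu, Nat.pow_le_pow_iff_right hp.out.one_lt] at this
    omega
  obtain ⟨w, hw, hw'⟩ := SetLike.not_le_iff_exists.1 h.not_le_gam
  have h1 : ∀ y ∈ L (n - 3), ∀ e ∈ E, y * e = e * y := fun y hy e he => by
    have : e ∈ cst S (n - 3) := by
      by_cases h2 : e ∈ gam S
      · exact (mul_mem_cancel_right (key w hw hw')).1
          (key _ (mul_mem he hw) fun h3 => hw' ((mul_mem_cancel_left h2).1 h3))
      · exact key e he h2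
    exact (commutatorElement_eq_one_iff_mul_comm.1
      (mem_bot.1 (hm.eq_bot (k := n - 3 + 2) (by omega) ▸ this.2 y hy))).symm
  exact ⟨fun y hy => H.mem_of_comm (H9.lcs_le S _ hy) fun e he => (h1 y hy e he).symm, h1⟩

theorem eq_tw (hw : w ∈ E) (hw' : w ∉ gam S) : L (n - 3) ⊔ zpowers w = E :=
  have := finite_of_le h.ess.le
  have := h.hn
  eq_of_le_of_card_ge (sup_le h.lcs_le.1 (zpowers_le.2 hw)) (by
    rw [h.card, h.mc.card_tw h.h5 (h.ess.le hw) hw' (by omega) (by omega)]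
    exact le_of_eq (by congr 1; omega))

theorem le_tw (hw : w ∈ E) (hw' : w ∉ gam S) (hn : k + 3 ≤ n) : E ≤ L k ⊔ zpowers w :=
  (h.eq_tw hw hw').ge.trans (MaxCl.tw_anti (by omega))

theorem comm_tw (hw : w ∈ E) (hk : 1 ≤ k) {y g : Ω} (hy : y ∈ L (n - 3))
    (hg : g ∈ L k ⊔ zpowers w) : g * y = y * g :=
  mul_comm_of_sup_zpowers rfl (fun _ hb => h.mc.comm_lcs hb hy (by have := h.hn; omega))
    (h.lcs_le.2 y hy w hw).symm hg

theorem img_tw (hw : w ∈ E) (hw' : w ∉ gam S) (hk : 1 ≤ k) (hn : k + 3 ≤ n)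
    (hf : F.IsMor (L k ⊔ zpowers w) f) :
    ∃ w' ∈ S, w' ∉ gam S ∧ FusionSystem.img (L k ⊔ zpowers w) f = L k ⊔ zpowers w' := by
  have hwS := h.ess.le hw
  have hn' : k ≤ n - 3 := by omega
  induction hn' using Nat.decreasingInduction with
  | self =>
    rw [h.eq_tw hw hw'] at hf ⊢
    obtain ⟨w', h1, h2⟩ := SetLike.not_le_iff_exists.1 (h.img hf).not_le_gam
    exact ⟨w', (h.img hf).ess.le h1, h2, ((h.img hf).eq_tw h1 h2).symm⟩
  | of_succ k hk' ih =>
    have hle := MaxCl.tw_anti (S := S) (w := w) (Nat.le_succ k)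
    obtain ⟨w', h1, h2, e⟩ := ih (by omega) (by omega) (hf.mono hle)
    have := finite_of_le (MaxCl.tw_le h1 k)
    refine ⟨w', h1, h2, eq_of_le_of_card_ge ?_ (by
      rw [hf.card_img, h.mc.card_tw h.h5 h1 h2 hk hn, h.mc.card_tw h.h5 hwS hw' hk hn])⟩
    rw [← h.mc.normalizer_tw h.h5 h1 h2 hk (by omega), ← e]
    exact img_le_iff.2 fun x hx => ⟨hf.mem hx, (hf.isIso_img_of_le hle).map_mem_normalizer hf hle hx
      ((h.mc.normalizer_tw h.h5 hwS hw' hk (by omega)).ge hx).2⟩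

theorem map_mem (hw : w ∈ E) (hw' : w ∉ gam S) (hk : 1 ≤ k) (hn : k + 4 ≤ n)
    (hf : F.IsIso (L k ⊔ zpowers w) (L k ⊔ zpowers w) f) {j : ℕ} (hj : k ≤ j) (hj' : j + 3 ≤ n)
    {u : Ω} (hu : u ∈ L j) : f u ∈ L j := by
  have hm := h.mc
  have h5 := h.h5
  have hwS := h.ess.le hw
  have hu1 := lcs_anti S hj hu
  obtain ⟨w', h1, h2, e⟩ := h.img_tw hw hw' (hk.trans hj) hj' (hf.mor.mono (MaxCl.tw_anti hj))
  refine hm.mem_of_mem_tw h5 h1 h2 (hk.trans hj) hj' (e ▸ mem_img_of_mem f (mem_sup_left hu)) ?_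
  by_contra h3
  have h4 := hf.mapsTo u (mem_sup_left hu1)
  obtain ⟨y, hy, i, e1⟩ := (mem_sup_zpowers (lcs_norm S k hwS)).1 h4
  have h6 : w ^ i ∉ gam S := fun e => h3 (e1 ▸ mul_mem (MaxCl.one_le_gam (lcs_anti S hk hy)) e)
  obtain ⟨g, hg, h7⟩ := hm.exists_conj_tw h5 (by omega) (zpow_mem hwS i) h6 (lcs_anti S hk hy)
  rw [← e1] at h7
  have hL : L (n - 3) ≤ L k ⊔ zpowers w := h.lcs_le.1.trans (h.le_tw hw hw' (by omega))
  have h8 : E ≤ (L k ⊔ zpowers w).comap (MulAut.conj g : Ω →* Ω) := by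
    rw [← h.eq_tw (zpow_mem hw i) h6]
    exact sup_le (fun z hz => hL (H9.conj_mem_of_mem_normalizer (lcs_norm S _ hg) hz))
      (zpowers_le.2 (inv_mem_iff.1 ((mul_mem_cancel_right h4).1 (hL h7)) :))
  obtain ⟨f', hf', e2, -⟩ := hf.exists_symm
  have hφ := hf'.mor.comp' (F.isMor_conj h.ess.le hg) h8
  obtain ⟨w'', k1, k2⟩ := SetLike.not_le_iff_exists.1 (h.img hφ).not_le_gam
  have k3 : u ∈ L (n - 3) := hm.mem_of_mem_tw h5 ((h.img hφ).ess.le k1) k2 (by omega) (by omega)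
    ((h.img hφ).eq_tw k1 k2 ▸ hφ.mem_img.2 ⟨_, mul_mem (zpow_mem hw i) (h.lcs_le.1
      (H9.conj_mem_of_mem_normalizer' (lcs_norm S _ hg) h7)), by
        simpa [mul_assoc] using e2 u (mem_sup_left hu1)⟩) (MaxCl.one_le_gam (lcs_anti S hk hu1))
  obtain ⟨y₀, k4, k5⟩ := SetLike.exists_of_lt (hm.lt (k := n - 4) (by omega))
  obtain ⟨x, hx, rfl⟩ := hf.surj y₀ (mem_sup_left (lcs_anti S (by omega) k4))
  refine k5 (hm.step_gam h5 (hf.mor.mem (mem_sup_left hu1)) h3 (by omega) (by omega) k4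
    (commutator_mem_of_comm _ ?_))
  rw [← hf.mor.map_mul hx (mem_sup_left hu1), h.comm_tw hw hk k3 hx,
    hf.mor.map_mul (mem_sup_left hu1) hx]

theorem exists_ext (hw : w ∈ E) (hw' : w ∉ gam S) (hk : 1 ≤ k) (hn : k + 5 ≤ n)
    (hf : F.IsIso (L (k + 1) ⊔ zpowers w) (L (k + 1) ⊔ zpowers w) f) :
    ∃ g, F.IsIso (L k ⊔ zpowers w) (L k ⊔ zpowers w) g ∧ ∀ x ∈ L (k + 1) ⊔ zpowers w, g x = f x := by
  have hm := h.mc
  have h5 := h.h5
  have hwS := h.ess.le hw
  have hN := hm.normalizer_tw h5 hwS hw' hk (by omega)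
  have hfn : F.IsFullyNormalized (L (k + 1) ⊔ zpowers w) := ⟨MaxCl.tw_le hwS _, fun Q hQ => by
    obtain ⟨g, hg⟩ := hQ.exists_isIso
    obtain ⟨w', h1, h2, e⟩ := h.img_tw hw hw' (by omega) (by omega) hg.mor
    rw [← hg.img_eq, e, hN, hm.normalizer_tw h5 h1 h2 hk (by omega),
      hm.card_tw h5 h1 h2 hk (by omega), hm.card_tw h5 hwS hw' hk (by omega)]⟩
  obtain ⟨g, hg, e⟩ := exists_ext_of_chain hm.hS h.sat hfn
    (C := fun i => L (if i = 0 then n - 1 else if i + k + 3 ≤ n then n - 2 - i else 0))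
    (fun i j hij => S.lowerCentralSeries_antitone (by split_ifs <;> omega))
    (by simp only [if_true, hm.eq_bot (k := n - 1) (by omega), inf_bot_eq])
    (n := n) (by rw [if_neg (by omega), if_neg (by omega)]; exact MaxCl.tw_le hwS _)
    (fun f hf i x hx hx' => by
      split_ifs at hx' ⊢ with h0 hi
      · rw [hm.eq_bot (by omega), mem_bot] at hx'
        rw [hx', hf.mor.map_one]; exact one_mem _
      · exact h.map_mem hw hw' (by omega) hn hf (by omega) (by omega) hx'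
      · exact hf.mor.mem hx)
    (fun g hg hn i x hx hx' => by
      have h1 := commutator_mem_lcs (inv_mem hx') hg
      rw [if_neg (by omega)] at h1 hx'
      split_ifs with h0 h2
      · rw [if_pos (by omega)] at hx'
        exact commutator_mem_of_comm _ (h.comm_tw hw hk (inv_mem (lcs_anti S (by omega) hx'))
          (hN.le ⟨hg, hn⟩)).symm
      · split_ifs at h1 with h3
        · exact lcs_anti S (by omega) h1
        refine lcs_anti S (by omega) (hm.mem_of_mem_tw h5 hwS hw' (k := k + 1) (by omega) (by omega)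
          ?_ (MaxCl.one_le_gam h1))
        simpa [commutatorElement_def, mul_assoc] using
          mul_mem (inv_mem hx) (H9.conj_mem_of_mem_normalizer hn hx)
      · exact H9.lcs_le S _ h1) hf
  refine ⟨g, hN ▸ hg.isIso_self fun x hx => ⟨hg.mem hx, (hf.congr fun y hy => (e y hy).symm
    ).map_mem_normalizer hg (le_normalizerIn hfn.le) hx hx.2⟩, e⟩

theorem false : False := by
  obtain ⟨M, H⟩ := exists_essCtx h.mc.hS h.sat h.ess
  have hm := h.mc
  have hn := h.hn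
  have h5 := h.h5
  have := H.finite
  let _ : CommGroup E := { (inferInstance : Group E) with
    mul_comm := fun a b => Subtype.ext (h.comm a a.2 b b.2) }
  have hV : ∀ v : E, v ^ p = 1 := fun v => Subtype.ext (h.pow v v.2)
  obtain ⟨w₀, hw₀, hw₀'⟩ := SetLike.not_le_iff_exists.1 h.not_le_gam
  have hN : normalizerIn S E = L (n - 4) ⊔ zpowers w₀ := by
    rw [← hm.normalizer_tw h5 (H.le hw₀) hw₀' (by omega) (by omega),
      show n - 4 + 1 = n - 3 by omega, h.eq_tw hw₀ hw₀']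
  have hT : ∀ s ∈ autInducedBy S E, ∃ u ∈ L (n - 4), ∃ hu : u ∈ normalizer (E : Set Ω),
      s = conjAut E hu := fun s hs => by
    obtain ⟨g, hg, hg', rfl⟩ := exists_eq_conjAut hs
    obtain ⟨u, hu, i, rfl⟩ := (mem_sup_zpowers (lcs_norm S _ (H.le hw₀))).1 (hN.le ⟨hg, hg'⟩)
    refine ⟨u, hu, (hN.ge (mem_sup_left hu)).2, MulEquiv.ext fun x => Subtype.ext ?_⟩
    rw [coe_conjAut, coe_conjAut, mul_assoc u, h.comm _ (zpow_mem hw₀ i) x x.2]
    group
  have hfix : ∀ {u : Ω}, u ∈ L (n - 4) → ∀ (hu : u ∈ normalizer (E : Set Ω)) (x : E),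
      (x : Ω) ∈ L (n - 3) → conjAut E hu x = x := fun hu hu' x hx => Subtype.ext (by
    rw [coe_conjAut, hm.comm_lcs hu hx (by omega), mul_inv_cancel_right])
  obtain ⟨s, hs, ν, hν, v₁, v₂, y, hv⟩ | ⟨-, -, hreg⟩ := H.data.dichotomy hV h.odd h.card.le
  swap
  · obtain ⟨s, hs, hs1⟩ := H.data.exists_ne_one
    have h1 := hreg s hs hs1
    obtain ⟨u, hu, hu', rfl⟩ := hT s hs
    have h2 := card_le_of_le' (show (L (n - 3)).subgroupOf E ≤ fixSub (conjAut E hu') from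
      fun x hx => hfix hu hu' x hx)
    rw [card_subgroupOf_of_le h.lcs_le.1, hm.card_lcs (by omega) (by omega)] at h2
    have h3 := h2.trans (h1.trans_eq (pow_one p).symm)
    rw [Nat.pow_le_pow_iff_right hp.out.one_lt] at h3
    omega
  obtain ⟨u, hu, hu', rfl⟩ := hT s hs
  have hw : (v₂ : Ω) ∈ E := v₂.2
  have hwS := H.le hw
  have hw' : (v₂ : Ω) ∉ gam S := fun e => hv.ne (by
    have := hv.sv₂
    rwa [hfix hu hu' v₂ (hm.mem_of_mem_tw h5 (H.le hw₀) hw₀' (by omega) (by omega)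
      (h.eq_tw hw₀ hw₀' ▸ hw) e), left_eq_mul] at this)
  have hu3 : u ∉ L (n - 3) := fun e => hv.s_ne_one (MulEquiv.ext fun x => Subtype.ext (by
    rw [coe_conjAut, h.lcs_le.2 u e x x.2, mul_inv_cancel_right]; rfl))
  have e3 : n - 4 + 1 = n - 3 := by omega
  obtain ⟨f, hf, ef, hfu⟩ := H.exists_ext_of_comm (mul_mem hν hν) (H9.lcs_le S _ hu) hu' (i := 1)
    (by rw [hv.t_comm, zpow_one, mul_inv_cancel_right, inv_mul_cancel]; exact one_mem _)
  have eP : E ⊔ zpowers u = L (n - 4) ⊔ zpowers (v₂ : Ω) := by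
    rw [← hm.sup_eq (by omega) hu (e3 ▸ hu3), e3, sup_right_comm, h.eq_tw hw hw']
  have hf0 : F.IsIso (L (n - 4) ⊔ zpowers (v₂ : Ω)) (L (n - 4) ⊔ zpowers (v₂ : Ω)) f :=
    eP ▸ hf.isIso_self (hf.isHomOn.mapsTo_sup (fun x hx => mem_sup_left (ef ⟨x, hx⟩ ▸ Subtype.prop _))
      (by
        rintro _ ⟨i, rfl⟩
        rw [hf.map_zpow (mem_sup_right (mem_zpowers u))]
        exact zpow_mem ((mul_mem_cancel_left (inv_mem (mem_sup_right (zpow_mem_zpowers u 1)))).1
          (mem_sup_left hfu)) i))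
  -- the group is exceptional
  obtain ⟨y₀, hy₀, t, ht, hyt⟩ : ∃ y ∈ L (n - 3), ∃ t ∈ gam S, ⁅y, t⁆ ≠ 1 := by
    by_contra hc
    push Not at hc
    refine (hm.cst_lt (k := n - 3) (by omega)).not_ge ((sup_zpowers_eq_of_relIndex_prime hp.out
      (hm.relIndex_gam (by omega)) MaxCl.gam_le hwS hw').ge.trans ?_)
    exact sup_le (fun t ht => ⟨ht.1, fun y hy => commutator_mem_comm (hc y hy t ht ▸ one_mem _)⟩)
      (zpowers_le.2 ⟨hwS, fun y hy => commutator_mem_of_comm _ (h.lcs_le.2 y hy _ hw).symm⟩)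
  obtain ⟨⟨m, rfl⟩, -, hexc⟩ := hm.exc h5 (by omega) (hm.twoStep h5) hy₀ ht hyt
  -- extension up the tower
  obtain ⟨g, hg, eg⟩ : ∃ g, F.IsIso (L (m - 2) ⊔ zpowers (v₂ : Ω)) (L (m - 2) ⊔ zpowers (v₂ : Ω)) g ∧
      ∀ x ∈ L (m + m - 4) ⊔ zpowers (v₂ : Ω), g x = f x := by
    have : ∀ k ≤ m + m - 4, 1 ≤ k → ∃ g, F.IsIso (L k ⊔ zpowers (v₂ : Ω)) (L k ⊔ zpowers (v₂ : Ω)) g ∧
        ∀ x ∈ L (m + m - 4) ⊔ zpowers (v₂ : Ω), g x = f x := fun k hk => by
      induction hk using Nat.decreasingInduction with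
      | self => exact fun _ => ⟨f, hf0, fun _ _ => rfl⟩
      | of_succ k hk ih =>
        intro h1
        obtain ⟨g, hg, e⟩ := ih (by omega)
        obtain ⟨g', hg', e'⟩ := h.exists_ext hw hw' h1 (by omega) hg
        exact ⟨g', hg', fun x hx => by rw [e' x (MaxCl.tw_anti hk hx), e x hx]⟩
    exact this _ (by omega) (by omega)
  have hinv := fun j => h.map_mem hw hw' (by omega) (by omega) hg (j := j)
  have egE : ∀ x : E, g x = (ν * ν) x := fun x => (eg x (h.le_tw hw hw' (by omega) x.2)).trans (ef x)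
  have hgw : g v₂ = (v₂ : Ω) ^ (-1 : ℤ) := by rw [egE, hv.t₂]; simp
  have hP : ∀ {j : ℕ} {x : Ω}, x ∈ L j → m - 2 ≤ j → x ∈ L (m - 2) ⊔ zpowers (v₂ : Ω) :=
    fun hx hj => mem_sup_left (lcs_anti S hj hx)
  have hall : ∀ j, m - 2 ≤ j → j + 4 ≤ m + m → ∀ {x : Ω} {e : ℤ}, x ∈ L j → x ∉ L (j + 1) →
      (x ^ e)⁻¹ * g x ∈ L (j + 1) → ∀ y ∈ L j, (y ^ e)⁻¹ * g y ∈ L (j + 1) :=
    fun j h1 h2 x e hx hx' he y hy => hm.wt_all (by omega) (hg.mor.isHomOn.mono fun _ hx => hP hx h1)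
      (fun y hy => hinv (j + 1) (by omega) h2 hy) hx hx' he hy
  have hwt : ∀ j ≤ m + m - 4, m - 2 ≤ j → ∀ y ∈ L j, (y ^ (-1 : ℤ) ^ j)⁻¹ * g y ∈ L (j + 1) :=
    fun j hj => by
    induction hj using Nat.decreasingInduction with
    | self =>
      refine fun h1 => hall _ h1 (by omega) hu (e3 ▸ hu3) ?_
      rw [Even.neg_one_pow ⟨m - 2, by omega⟩, e3]
      refine hm.mem_of_mem_tw h5 hwS hw' (by omega) (by omega) ?_ (MaxCl.one_le_gam (lcs_anti S
        (by omega) (mul_mem (inv_mem (zpow_mem hu 1)) (hinv _ h1 (by omega) hu))))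
      rw [h.eq_tw hw hw', eg u (mem_sup_left hu)]; exact hfu
    | of_succ j hj ih =>
      intro h1
      obtain ⟨x, hx, hx'⟩ := SetLike.exists_of_lt (hm.lt (k := j) (by omega))
      obtain ⟨c, hc⟩ := hm.exists_cong (by omega) hx hx' (hinv j h1 (by omega) hx)
      have k1 := commutator_mem_lcs hx hwS
      have k2 := ih (by omega) _ k1
      have k3 := commutator_lcs_bilin (l := 0) hx (H9.conj_mem_of_mem_normalizer (lcs_norm S _
        (zpow_mem (H9.lcs_le S _ hx) c)) hc) hwS (one_mem _) c (-1)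
      rw [one_mul, ← hgw, show x ^ c * ((x ^ c)⁻¹ * g x) * (x ^ c)⁻¹ * x ^ c = g x by group,
        ← hg.mor.map_commutatorElement (hP hx h1) (mem_sup_right (mem_zpowers _))] at k3
      have k4 := hm.cong_uniq (by omega) k1
        (fun e => hx' (hm.step_gam h5 hwS hw' (by omega) (by omega) hx e)) k2 k3
      obtain ⟨d, hd⟩ : (p : ℤ) ∣ c - (-1) ^ j := by
        rw [← ZMod.intCast_eq_intCast_iff_dvd_sub]
        push_cast at k4 ⊢
        linear_combination -k4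
      refine hall j h1 (by omega) hx hx' (cong_trans ?_ hc)
      rw [← zpow_neg, ← zpow_add, neg_add_eq_sub, hd, zpow_mul, zpow_natCast]
      exact zpow_mem (hm.pow_mem_succ (by omega) hx) d
  -- the centre is inverted
  obtain ⟨a, ha, ha'⟩ := SetLike.exists_of_lt (hm.lt (k := m - 2) (by omega))
  obtain ⟨b, hb, hb'⟩ := SetLike.exists_of_lt (hm.lt (k := m - 2 + 1) (by omega))
  have hz1 : ⁅a, b⁆ ≠ 1 := fun e => hexc _ _ (by omega) (by omega) (by omega) a ha ha' b hb hb'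
    (commutatorElement_eq_one_iff_mul_comm.1 e)
  have hz : ⁅a, b⁆ ∈ L (m + m - 2) := lcs_anti S (by omega) (commutator_mem_lcs_add ha hb)
  have hzE := h.lcs_le.1 (lcs_anti S (by omega) hz)
  have hgz : g ⁅a, b⁆ = ⁅a, b⁆⁻¹ := by
    have k1 := commutator_lcs_bilin ha (H9.conj_mem_of_mem_normalizer (lcs_norm S _
      (zpow_mem (H9.lcs_le S _ ha) ((-1) ^ (m - 2)))) (hwt _ (by omega) le_rfl a ha)) hb
      (H9.conj_mem_of_mem_normalizer (lcs_norm S _
        (zpow_mem (H9.lcs_le S _ hb) ((-1) ^ (m - 2 + 1))))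
        (hwt _ (by omega) (by omega) b hb)) ((-1) ^ (m - 2)) ((-1) ^ (m - 2 + 1))
    simp only [mul_inv_cancel_left, inv_mul_cancel_right] at k1
    rwa [hm.eq_bot (by omega), mem_bot, ← pow_add, Odd.neg_one_pow ⟨m - 2, by omega⟩,
      ← hg.mor.map_commutatorElement (hP ha le_rfl) (hP hb (by omega)), inv_mul_eq_one, zpow_neg_one,
      eq_comm] at k1
  obtain ⟨i, j, e⟩ := hv.exists_of_inv h.odd (v := ⟨_, hzE⟩) (Subtype.ext (by rw [← egE]; exact hgz))
  have k1 := hfix hu hu' ⟨_, hzE⟩ (lcs_anti S (by omega) hz)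
  rw [e, map_mul, map_zpow, map_zpow, hv.sv₁, hv.sv₂, mul_zpow, mul_right_inj, mul_eq_left,
    zpow_eq_one_iff_dvd_of_prime hv.ne (hV v₁), ← zpow_eq_one_iff_dvd_of_prime
      (fun e : v₂ = 1 => hw' (by rw [e]; exact one_mem _)) (hV v₂)] at k1
  rw [k1, mul_one] at e
  have k2 : (v₁ : Ω) ∈ L (m + m - 2) := mem_of_zpow_mem_of_not_dvd (k := 1) (i := i)
    (by rw [pow_one, h.pow _ v₁.2]; exact one_mem _) (fun e' => hz1 (congrArg Subtype.val
      (e.trans ((zpow_eq_one_iff_dvd_of_prime hv.ne (hV v₁)).2 e'))))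
    (by rw [show (v₁ : Ω) ^ i = ⁅a, b⁆ from (congrArg Subtype.val e).symm]; exact hz)
  refine hu3 (e3 ▸ hm.step_gam h5 hwS hw' (by omega) (by omega) hu
    (lcs_anti S (j := m + m - 2) (by omega) ?_))
  have k3 := congrArg Subtype.val hv.sv₂
  rw [coe_conjAut, mul_comm] at k3
  rwa [commutatorElement_def, k3, coe_mul, mul_inv_cancel_right]

end Bad

end Cfsg.Agent.H9
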