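import Cfsg.Agent.Lib.H9.Tower

/-!
# Blackburn's theorem on the two-step centralizers of a `p`-group of maximal class
-/

set_option autoImplicit false
set_option linter.unusedSectionVars false

open Subgroup
open scoped commutatorElement

namespace Cfsg.Agent.H9

open Cfsg.Agent.H1 Cfsg.Agent.H7

universe u

section Group

variable {G : Type*} [Group G]

theorem jacobi_aux {g x y : G} (h1 : Commute ⁅g, x⁆ ⁅g, y⁆) (h2 : ∀ v, Commute v ⁅⁅g, x⁆, y⁆)
    (h3 : ∀ v, Commute v ⁅x, ⁅g, y⁆⁆) (h4 : Commute ⁅g, x⁆ ⁅x, y⁆) (h5 : Commute ⁅g, y⁆ ⁅x, y⁆) :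
    ⁅⁅g, x⁆, y⁆ * ⁅x, ⁅g, y⁆⁆ = ⁅g, ⁅x, y⁆⁆ := by
  have e1 : ⁅g, ⁅x, y⁆⁆ = ⁅g, x⁆ * (⁅x, ⁅g, y⁆⁆ * (⁅g, y⁆ * ⁅x, y⁆ * ⁅g, y⁆⁻¹)) * ⁅g, x⁆⁻¹ *
      (⁅⁅g, x⁆, ⁅g, y⁆⁆ * (⁅g, y⁆ * ⁅⁅g, x⁆, y⁆ * ⁅g, y⁆⁻¹)) * ⁅x, y⁆⁻¹ := by
    simp only [commutatorElement_def]; group
  rw [e1, h5.eq, (h2 _).eq, commutatorElement_eq_one_iff_commute.2 h1, mul_inv_cancel_right,
    mul_inv_cancel_right, one_mul, ((h3 _).mul_right h4).eq, mul_inv_cancel_right,
    mul_assoc _ ⁅x, y⁆, (h2 ⁅x, y⁆).eq, ← mul_assoc, mul_inv_cancel_right, (h2 _).eq]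

/-- The Jacobi identity in the Lie ring of the lower central series. -/
theorem jacobi_lcs {S : Subgroup G} {a i j : ℕ} {g x y : G} (hg : g ∈ S.lowerCentralSeries a)
    (hx : x ∈ S.lowerCentralSeries i) (hy : y ∈ S.lowerCentralSeries j) :
    (⁅⁅g, x⁆, y⁆ * ⁅x, ⁅g, y⁆⁆)⁻¹ * ⁅g, ⁅x, y⁆⁆ ∈ S.lowerCentralSeries (a + i + j + 3) := by
  set K := S.lowerCentralSeries (a + i + j + 3)
  have : (K.subgroupOf S).Normal :=
    ⟨fun n hn g => H9.conj_mem_of_mem_normalizer (K := K) (lcs_norm S _ g.2) hn⟩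
  let π := QuotientGroup.mk' (K.subgroupOf S)
  have c : ∀ {k l : ℕ} (u v : S), (u : G) ∈ S.lowerCentralSeries k →
      (v : G) ∈ S.lowerCentralSeries l → a + i + j + 2 ≤ k + l → Commute (π u) (π v) :=
    fun u v hu hv h => commute_mk_of_mem (lcs_anti S (by omega) (commutator_mem_lcs_add hu hv))
  have hgx := commutator_mem_lcs_add hg hx
  have hgy := commutator_mem_lcs_add hg hy
  have hxy := commutator_mem_lcs_add hx hy
  have e := jacobi_aux (g := π ⟨g, lcs_le S _ hg⟩) (x := π ⟨x, lcs_le S _ hx⟩)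
    (y := π ⟨y, lcs_le S _ hy⟩)
    (by simp only [← map_commutatorElement]; exact c _ _ hgx hgy (by omega))
    (fun v => by
      obtain ⟨v, rfl⟩ := QuotientGroup.mk'_surjective _ v
      simp only [← map_commutatorElement]
      exact c (k := 0) _ _ v.2 (commutator_mem_lcs_add hgx hy) (by omega))
    (fun v => by
      obtain ⟨v, rfl⟩ := QuotientGroup.mk'_surjective _ v
      simp only [← map_commutatorElement]
      exact c (k := 0) _ _ v.2 (commutator_mem_lcs_add hx hgy) (by omega))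
    (by simp only [← map_commutatorElement]; exact c _ _ hgx hxy (by omega))
    (by simp only [← map_commutatorElement]; exact c _ _ hgy hxy (by omega))
  simp only [← map_mul, ← map_commutatorElement] at e
  exact mul_mem_of_mk_eq e

theorem cong_zpow {K : Subgroup G} {a b : G} (ha : a ∈ normalizer (K : Set G)) (h : a⁻¹ * b ∈ K)
    (i : ℤ) : (a ^ i)⁻¹ * b ^ i ∈ K := by
  have hb : b ∈ normalizer (K : Set G) := by simpa using mul_mem ha (le_normalizer h)
  have e : QuotientGroup.mk' (K.subgroupOf (normalizer (K : Set G))) ⟨a, ha⟩ =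
      QuotientGroup.mk' _ ⟨b, hb⟩ := QuotientGroup.eq.2 h
  have := congrArg (· ^ i) e
  simp only [← map_zpow] at this
  exact mul_mem_of_mk_eq this

theorem cong_trans {K : Subgroup G} {a b c : G} (h1 : a⁻¹ * b ∈ K) (h2 : b⁻¹ * c ∈ K) :
    a⁻¹ * c ∈ K := by simpa [mul_assoc] using mul_mem h1 h2

theorem cong_mul {K : Subgroup G} {a b c d : G} (hc : c ∈ normalizer (K : Set G))
    (h1 : a⁻¹ * b ∈ K) (h2 : c⁻¹ * d ∈ K) : (a * c)⁻¹ * (b * d) ∈ K := by
  simpa [mul_assoc] using mul_mem (H9.conj_mem_of_mem_normalizer' hc h1) h2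

theorem exists_not_mem_three {p : ℕ} [hp : Fact p.Prime] (h5 : 5 ≤ p) {S A B C : Subgroup G}
    [Finite S] (hS : IsPGroup p S) (hA : A < S) (hB : B < S) (hC : C < S) :
    ∃ s ∈ S, s ∉ A ∧ s ∉ B ∧ s ∉ C := by
  by_contra h
  have h1 : (S : Set G) ⊆ A ∪ B ∪ C := fun s hs => by
    by_contra e
    simp only [Set.mem_union, SetLike.mem_coe, not_or] at e
    exact h ⟨s, hs, e.1.1, e.1.2, e.2⟩
  have hf : (S : Set G).Finite := Set.toFinite _
  have h2 := (Set.ncard_le_ncard h1 (((hf.subset hA.le).union (hf.subset hB.le)).union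
    (hf.subset hC.le))).trans ((Set.ncard_union_le _ _).trans
      (Nat.add_le_add_right (Set.ncard_union_le _ _) _))
  have a := mul_card_le_of_lt hS hA
  have b := mul_card_le_of_lt hS hB
  have c := mul_card_le_of_lt hS hC
  have d := card_pos' S
  simp only [← Nat.card_coe_set_eq, SetLike.coe_sort_coe] at h2
  nlinarith

end Group

theorem alt_rec {R : Type*} [CommRing R] {a : ℕ → ℕ → R} {d : ℕ}
    (hr : ∀ i j, i + j + 1 ≤ d → a i j = a (i + 1) j + a i (j + 1)) (h0 : ∀ j < d, a 0 j = 0) :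
    (∀ i j, i + j < d → a i j = 0) ∧ ∀ i j, i + j = d → a i j = (-1) ^ i * a 0 d := by
  have h1 : ∀ i j, i + j < d → a i j = 0 := fun i => by
    induction i with
    | zero => exact fun j hj => h0 j (by omega)
    | succ i ih =>
      intro j hj
      have := hr i j (by omega)
      rwa [ih j (by omega), ih (j + 1) (by omega), add_zero, eq_comm] at this
  refine ⟨h1, fun i => ?_⟩
  induction i with
  | zero => rintro j rfl; simp
  | succ i ih =>
    intro j hj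
    have := hr i j (by omega)
    rw [h1 i j (by omega), ih (j + 1) (by omega)] at this
    linear_combination -this

namespace MaxCl

variable {G : Type*} [Group G] {p : ℕ} [hp : Fact p.Prime] {S : Subgroup G} [Finite S] {n : ℕ}

local notation "L" => Subgroup.lowerCentralSeries S

theorem pow_mem_succ (h : MaxCl p S n) {k : ℕ} (hk : 1 ≤ k) {x : G} (hx : x ∈ L k) :
    x ^ p ∈ L (k + 1) := by
  by_cases h1 : k + 2 ≤ n
  · have := finite_of_le (lcs_le S k)
    exact pow_mem_of_relIndex_prime (h.hS.to_le (lcs_le S k))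
      (S.lowerCentralSeries_antitone (Nat.le_succ k)) (h.relIndex_lcs hk h1) hx
  · rw [h.eq_bot (by omega), mem_bot] at hx
    simp [hx]

theorem exists_cong (h : MaxCl p S n) {k : ℕ} (hk : 1 ≤ k) {u x : G} (hu : u ∈ L k)
    (hu' : u ∉ L (k + 1)) (hx : x ∈ L k) : ∃ c : ℤ, (u ^ c)⁻¹ * x ∈ L (k + 1) := by
  have hn := lcs_norm S (k + 1) (lcs_le S k hu)
  obtain ⟨y, hy, c, rfl⟩ := (mem_sup_zpowers hn).1 (h.sup_eq hk hu hu' ▸ hx)
  exact ⟨c, by simpa [mul_assoc] using H9.conj_mem_of_mem_normalizer' (zpow_mem hn c) hy⟩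

theorem cong_uniq (h : MaxCl p S n) {k : ℕ} (hk : 1 ≤ k) {u x : G} (hu : u ∈ L k)
    (hu' : u ∉ L (k + 1)) {c d : ℤ} (hc : (u ^ c)⁻¹ * x ∈ L (k + 1))
    (hd : (u ^ d)⁻¹ * x ∈ L (k + 1)) : (c : ZMod p) = d := by
  rw [ZMod.intCast_eq_intCast_iff_dvd_sub, ← zpow_mem_iff_dvd hu' (h.pow_mem_succ hk hu)]
  simpa [mul_assoc, zpow_sub, (Commute.zpow_zpow_self u d c).inv_right.eq] using
    mul_mem hc (inv_mem hd)

omit hp [Finite S] in
theorem cong_comm {j k : ℕ} {g u x : G} (hg : g ∈ L j) (hu : u ∈ L k) {c : ℤ}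
    (hc : (u ^ c)⁻¹ * x ∈ L (k + 1)) : (⁅g, u⁆ ^ c)⁻¹ * ⁅g, x⁆ ∈ L (j + k + 2) := by
  simpa [mul_assoc] using commutator_lcs_bilin hg (one_mem _) hu
    (H9.conj_mem_of_mem_normalizer (lcs_norm S _ (zpow_mem (lcs_le S k hu) c)) hc) 1 c

theorem mem_sup_of_comm (h : MaxCl p S n) {w g : G} (hw : w ∈ S) (hw' : w ∉ L 1) (hg : g ∈ S)
    (hc : ⁅g, w⁆ ∈ L 2) : g ∈ L 1 ⊔ zpowers w := by
  by_contra h2
  have hle : L 1 ⊔ zpowers w ≤ S := sup_le (lcs_le S 1) (zpowers_le.2 hw)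
  obtain ⟨x, hx, h3⟩ := h.exists_commutator_not_mem (k := 0) h.three hw hw'
  refine h3 (commutator_mem_comm (commutator_mem_of_sup_zpowers
    (S.self_le_normalizer_lowerCentralSeries _) (sup_zpowers_eq_of_relIndex_prime hp.out
      (h.relIndex_sup_zpowers hw hw') hle hg h2) (fun b hb => ?_) hc hx))
  exact commutator_mem_of_sup_zpowers (hle.trans (S.self_le_normalizer_lowerCentralSeries _)) rfl
    (fun c hc => commutator_mem_lcs hc hw) (by simp) hb

/-- The structure constants of the Lie ring. -/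
theorem exists_chain (h : MaxCl p S n) (h4 : 4 ≤ n) {s t : G} (hs : Unif S n s) (ht : t ∈ gam S)
    (ht' : t ∉ L 1) : ∃ (u : ℕ → G) (a : ℕ → ℕ → ZMod p), u 0 = t ∧ (∀ i, u i ∈ L i) ∧
      (∀ i, i + 2 ≤ n → u i ∉ L (i + 1)) ∧
      (∀ i j, i + j + 3 ≤ n → (a i j = 0 ↔ ⁅u i, u j⁆ ∈ L (i + j + 2))) ∧
      (∀ i j, i + j + 4 ≤ n → a i j = a (i + 1) j + a i (j + 1)) ∧
      ∀ j, j + 5 ≤ n → ⁅u 0, ⁅u 1, u j⁆⁆ ∈ L (j + 4) → a 0 (j + 2) * a 1 j = 0 := by
  let u : ℕ → G := fun i => (fun y => ⁅s, y⁆)^[i] t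
  have e : ∀ i, u (i + 1) = ⁅s, u i⁆ := fun i => Function.iterate_succ_apply' _ i t
  have h1 : ∀ i, u i ∈ L i := fun i => by
    induction i with
    | zero => exact ht.1
    | succ i ih => exact e i ▸ commutator_mem_comm (commutator_mem_lcs ih hs.mem)
  have h2 : ∀ i, i + 2 ≤ n → u i ∉ L (i + 1) := fun i => by
    induction i with
    | zero => exact fun _ => ht'
    | succ i ih =>
      intro hi h3
      rw [e] at h3
      rcases Nat.eq_zero_or_pos i with rfl | h0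
      · exact h.not_mem_gam h4 hs (sup_le one_le_gam (zpowers_le.2 ht)
          (h.mem_sup_of_comm ht.1 ht' hs.mem h3))
      · exact ih (by omega) (hs.step i h0 hi _ (h1 i) (commutator_mem_comm h3))
  have h3 : ∀ i j, ∃ c : ℤ, ∀ m, m = i + j + 1 → m + 2 ≤ n →
      (u m ^ c)⁻¹ * ⁅u i, u j⁆ ∈ L (m + 1) := fun i j => by
    by_cases hm : i + j + 1 + 2 ≤ n
    · obtain ⟨c, hc⟩ := h.exists_cong (by omega) (h1 _) (h2 _ hm)
        (commutator_mem_lcs_add (h1 i) (h1 j))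
      exact ⟨c, by rintro _ rfl -; exact hc⟩
    · exact ⟨0, by rintro _ rfl h; exact (hm h).elim⟩
  choose α hα using h3
  refine ⟨u, fun i j => α i j, rfl, h1, h2, fun i j hij => ⟨fun h0 => ?_, fun h0 => ?_⟩,
    fun i j hij => ?_, fun j hj h0 => ?_⟩
  · obtain ⟨c, hc⟩ := (ZMod.intCast_zmod_eq_zero_iff_dvd _ _).1 h0
    have := hα i j _ rfl hij
    rw [hc, zpow_mul, zpow_natCast] at this
    exact (mul_mem_cancel_left (inv_mem (zpow_mem (h.pow_mem_succ (by omega) (h1 _)) c))).1 this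
  · simpa using h.cong_uniq (by omega) (h1 _) (h2 _ hij) (hα i j _ rfl hij) (d := 0)
      (by simpa using h0)
  · have k1 := cong_comm (j := 0) hs.mem (h1 _) (hα i j _ rfl (by omega))
    have k2 := cong_mul (lcs_norm S _ (zpow_mem (lcs_le S _ (h1 _)) _))
      (hα (i + 1) j (i + j + 2) (by omega) hij) (hα i (j + 1) (i + j + 2) (by omega) hij)
    have k3 := jacobi_lcs (a := 0) hs.mem (h1 i) (h1 j)
    rw [← e, ← e, zero_add] at k3
    rw [← zpow_add] at k2
    rw [← e, zero_add] at k1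
    simpa using h.cong_uniq (by omega) (h1 _) (h2 _ hij) k1 (cong_trans k2 k3)
  · have k1 := cong_comm (h1 0) (h1 _) (hα 1 j (j + 2) (by omega) (by omega))
    have k2 := cong_zpow (lcs_norm S _ (zpow_mem (lcs_le S _ (h1 _)) _))
      (hα 0 (j + 2) (j + 3) (by omega) hj) (α 1 j)
    rw [← zpow_mul] at k2
    rw [zero_add] at k1
    simpa using h.cong_uniq (by omega) (h1 _) (h2 _ hj) (cong_trans k2 k1) (d := 0)
      (by simpa using h0)

/-- The two-step centralizers. -/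
def _root_.Cfsg.Agent.H9.cst (S : Subgroup G) (k : ℕ) : Subgroup G where
  carrier := {g | g ∈ S ∧ ∀ y ∈ S.lowerCentralSeries k, ⁅g, y⁆ ∈ S.lowerCentralSeries (k + 2)}
  one_mem' := ⟨S.one_mem, by simp⟩
  mul_mem' {a b} ha hb := ⟨S.mul_mem ha.1 hb.1, fun y hy =>
    ((cmod _ y).mul_mem ⟨lcs_norm S _ ha.1, ha.2 y hy⟩ ⟨lcs_norm S _ hb.1, hb.2 y hy⟩).2⟩
  inv_mem' {a} ha := ⟨S.inv_mem ha.1, fun y hy =>
    ((cmod _ y).inv_mem ⟨lcs_norm S _ ha.1, ha.2 y hy⟩).2⟩

theorem cst_lt (h : MaxCl p S n) {k : ℕ} (hk : k + 3 ≤ n) : cst S k < S := by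
  refine lt_of_le_of_ne (fun _ h => h.1) fun e => (h.lt (k := k + 1) hk).not_ge ?_
  exact commutator_le.2 fun a ha g hg => commutator_mem_comm ((e.ge hg).2 a ha)

theorem step_of_not_mem (h : MaxCl p S n) {k : ℕ} (hk : 1 ≤ k) {s : G} (hs : s ∈ S)
    (hs' : s ∉ cst S k) {y : G} (hy : y ∈ L k) (h1 : ⁅y, s⁆ ∈ L (k + 2)) : y ∈ L (k + 1) := by
  by_contra hy'
  exact hs' ⟨hs, fun x hx => commutator_mem_comm (commutator_mem_of_sup_zpowers
    ((lcs_le S k).trans (S.self_le_normalizer_lowerCentralSeries _)) (h.sup_eq hk hy hy')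
    (fun b hb => commutator_mem_lcs hb hs) h1 hx)⟩

/-- `gam S` centralizes the two-step factors up to level `n - r`. -/
def _root_.Cfsg.Agent.H9.TwoStep (S : Subgroup G) (n r : ℕ) : Prop :=
  ∀ k, 1 ≤ k → k + r ≤ n → ∀ y ∈ S.lowerCentralSeries k, ∀ t ∈ gam S,
    ⁅y, t⁆ ∈ S.lowerCentralSeries (k + 2)

theorem not_mem_cst (h : MaxCl p S n) {r k : ℕ} (hr : TwoStep S n r) (h3 : 3 ≤ r) (hk : 1 ≤ k)
    (hn : k + r ≤ n) {s : G} (hs : s ∉ gam S) : s ∉ cst S k := by
  rcases eq_or_eq_of_relIndex_prime hp.out (h.relIndex_gam (by omega)) (M := cst S k)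
    (fun t ht => ⟨ht.1, fun y hy => commutator_mem_comm (hr k hk hn y hy t ht)⟩)
    (h.cst_lt (by omega)).le with e | e
  · rwa [e]
  · exact ((h.cst_lt (by omega)).ne e).elim

theorem exists_unif (h : MaxCl p S n) (h5 : 5 ≤ p) (h4 : 4 ≤ n) (hr : TwoStep S n 5) :
    ∃ s, Unif S n s := by
  obtain ⟨s, hs, h1, h2, h3⟩ := exists_not_mem_three h5 h.hS (h.cst_lt (k := 1) h4)
    (h.cst_lt (k := n - 4) (by omega)) (h.cst_lt (k := n - 3) (by omega))
  refine ⟨s, hs, fun e => h1 (one_le_gam e), fun k hk hn y hy => h.step_of_not_mem hk hs ?_ hy⟩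
  rcases (by omega : k + 5 ≤ n ∨ k = n - 4 ∨ k = n - 3) with h6 | rfl | rfl
  exacts [h.not_mem_cst hr (by omega) hk h6 h1, h2, h3]

theorem mul_pow_eq' (h : MaxCl p S n) {s : G} (hs : Unif S n s) (hn : p + 1 ≤ n) {x y : G}
    (hx : x ∈ L (n - p)) (hy : y ∈ S) : (x * y) ^ p = y ^ p := by
  have h2 := hp.out.two_le
  have hD : Filt (fun j => L (n - p + (j - 1))) 1 :=
    ⟨fun a b hab => S.lowerCentralSeries_antitone (by omega),
      fun a b => (commutator_lcs_le S _ _).trans (S.lowerCentralSeries_antitone (by omega)),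
      finite_of_le (lcs_le S _), n, h.eq_bot (by omega)⟩
  have h1 := hD.pow_mul_mem hp.out rfl (s := y) (fun j hj z hz =>
    lcs_anti S (by omega) (commutator_mem_lcs (inv_mem hz) hy)) (fun j hj _ z hz =>
      lcs_anti S (by omega) (h.pow_mem hs (by omega) hz)) hx
  have h3 := h.pow_mem hs (by omega) hx
  have h4 := iterate_mem hy hx (p - 1)
  rw [h.eq_bot (by omega), mem_bot] at h1 h3 h4
  rwa [h3, h4, one_mul, mul_one, inv_eq_one, mul_inv_eq_one] at h1

/-- Exceptional groups. -/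
theorem exc (h : MaxCl p S n) (h5 : 5 ≤ p) (h4 : 4 ≤ n) (hr : TwoStep S n 4) {y t : G}
    (hy : y ∈ L (n - 3)) (ht : t ∈ gam S) (hne : ⁅y, t⁆ ≠ 1) : Even n ∧ n < p + 4 ∧
      ∀ i j, 1 ≤ i → 1 ≤ j → i + j + 3 = n → ∀ a ∈ L i, a ∉ L (i + 1) → ∀ b ∈ L j, b ∉ L (j + 1) →
        a * b ≠ b * a := by
  obtain ⟨s, hs⟩ := h.exists_unif h5 h4 fun k hk hn => hr k hk (by omega)
  have hb : ∀ {k : ℕ} {x : G}, x ∈ L k → n ≤ k + 1 → x = 1 := fun hx hk =>
    mem_bot.1 (h.eq_bot hk ▸ hx)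
  have hc : ∀ {i j : ℕ} {a b : G}, a ∈ L i → b ∈ L j → n ≤ i + j + 2 → a * b = b * a :=
    fun ha hb' hk => commutatorElement_eq_one_iff_mul_comm.1 (hb (commutator_mem_lcs_add ha hb') hk)
  rw [Ne, commutatorElement_eq_one_iff_mul_comm] at hne
  obtain ⟨u, a, rfl, h1, h2, h3, h6, -⟩ := h.exists_chain h4 hs ht fun e => hne (hc hy e (by omega))
  obtain ⟨k0, k1⟩ := alt_rec (a := a) (d := n - 3) (fun i j hij => h6 i j (by omega)) fun j hj => by
    rw [h3 0 j (by omega), zero_add]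
    rcases Nat.eq_zero_or_pos j with rfl | h0
    · simp
    · exact commutator_mem_comm (hr j h0 (by omega) _ (h1 j) _ ht)
  have k2 : a 0 (n - 3) ≠ 0 := fun e => hne (mul_comm_of_sup_zpowers
    (h.sup_eq (by omega) (h1 (n - 3)) (h2 _ (by omega))) (fun b hb => hc hb (h1 0) (by omega))
    (commutatorElement_eq_one_iff_mul_comm.1 (hb ((h3 0 _ (by omega)).1 e) (by omega))).symm hy)
  have k3 : ∀ i j, i + j + 3 = n → u i * u j ≠ u j * u i := fun i j hij e => by
    have := (h3 i j hij.le).2 (commutator_mem_of_comm _ e)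
    rw [k1 i j (by omega)] at this
    exact k2 ((mul_eq_zero.1 this).resolve_left (by simp))
  have k4 : ∀ i j, 1 ≤ i → 1 ≤ j → i + j + 3 = n → ∀ a ∈ L i, a ∉ L (i + 1) → ∀ b ∈ L j,
      b ∉ L (j + 1) → a * b ≠ b * a := fun i j hi hj hij a ha ha' b hb hb' e =>
    k3 i j hij (mul_comm_of_sup_zpowers (h.sup_eq hj hb hb') (fun c hc' => hc hc' (h1 i) (by omega))
      (mul_comm_of_sup_zpowers (h.sup_eq hi ha ha') (fun c hc' => hc hc' hb (by omega)) e
        (h1 i)).symm (h1 j)).symm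
  refine ⟨?_, lt_of_not_ge fun hn => ?_, k4⟩
  · rcases Nat.even_or_odd' n with ⟨m, rfl | rfl⟩
    · exact even_two_mul m
    · exact (k3 (m - 1) (m - 1) (by omega) rfl).elim
  · have k5 := h.pow_mem hs le_rfl (h1 1)
    have k6 := h.pow_not_mem hs le_rfl (h1 1) (h2 1 (by omega)) (by omega)
    refine k4 (n - 3 - p) _ (by omega) (by omega) (by omega) _ (h1 _) (h2 _ (by omega)) _ k5 k6 ?_
    have k7 := h.mul_pow_eq' hs (by omega) (lcs_anti S (by omega)
      ((h3 (n - 3 - p) 1 (by omega)).1 (k0 _ _ (by omega)))) (lcs_le S 1 (h1 1))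
    rw [commutatorElement_def, inv_mul_cancel_right, conj_pow] at k7
    exact mul_inv_eq_iff_eq_mul.1 k7

theorem step (h : MaxCl p S n) (h5 : 5 ≤ p) (h6 : 6 ≤ n) (hr : TwoStep S n 5) {y t : G}
    (hy : y ∈ L (n - 4)) (ht : t ∈ gam S) (hne : ⁅y, t⁆ ∉ L (n - 4 + 2)) : 2 * p + 3 ≤ n := by
  obtain ⟨s, hs⟩ := h.exists_unif h5 (by omega) hr
  obtain ⟨u, a, rfl, h1, h2, h3, h7, h8⟩ := h.exists_chain (by omega) hs ht fun e =>
    hne (commutator_mem_lcs_add hy e)
  have k0 : ∀ j, j + 5 ≤ n → ⁅u 0, u j⁆ ∈ L (j + 2) := fun j hj => by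
    rcases Nat.eq_zero_or_pos j with rfl | h0
    · simp
    · exact commutator_mem_comm (hr j h0 hj _ (h1 j) _ ht)
  obtain ⟨-, k1⟩ := alt_rec (a := a) (d := n - 4) (fun i j hij => h7 i j (by omega)) fun j hj => by
    rw [h3 0 j (by omega), zero_add]; exact k0 j (by omega)
  have k2 : a 0 (n - 4) ≠ 0 := fun e => hne (commutator_mem_of_sup_zpowers
    ((lcs_le S _).trans (S.self_le_normalizer_lowerCentralSeries _))
    (h.sup_eq (by omega) (h1 (n - 4)) (h2 _ (by omega))) (fun b hb => commutator_mem_lcs hb ht.1)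
    (commutator_mem_comm (by simpa using (h3 0 _ (by omega)).1 e)) hy)
  have k3 : ∀ i, i + i + 3 ≤ n → a i i = 0 := fun i hi => (h3 i i hi).2 (by simp)
  have k4 : ∀ i j, i + j = n - 3 → a i j = (-1) ^ i * (a 0 (n - 3) - i * a 0 (n - 4)) := fun i => by
    induction i with
    | zero => rintro j hj; simp [← hj]
    | succ i ih =>
      intro j hj
      have := h7 i j (by omega)
      rw [k1 i j (by omega), ih (j + 1) (by omega)] at this
      push_cast
      linear_combination -this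
  have k5 : a 0 (n - 3) = 0 := by
    have k6 := jacobi_lcs (h1 0) (h1 1) (h1 (n - 5))
    have k7 := h8 (n - 5) (by omega) ((mul_mem_cancel_left (inv_mem (mul_mem
      (lcs_anti S (by omega) (commutator_mem_lcs_add (k0 1 h6) (h1 (n - 5))))
      (lcs_anti S (by omega) (commutator_mem_lcs_add (h1 1) (k0 (n - 5) (by omega))))))).1
        (lcs_anti S (by omega) k6))
    rw [k1 1 _ (by omega), show n - 5 + 2 = n - 3 by omega] at k7
    simpa [k2] using k7
  rcases Nat.even_or_odd' n with ⟨m, rfl | rfl⟩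
  · have := k1 (m - 2) (m - 2) (by omega)
    rw [k3 _ (by omega), eq_comm] at this
    exact (k2 ((mul_eq_zero.1 this).resolve_left (by simp))).elim
  · have := k4 (m - 1) (m - 1) (by omega)
    rw [k3 _ (by omega), k5, eq_comm] at this
    have k8 : ((m - 1 : ℕ) : ZMod p) = 0 := by
      generalize a 0 (2 * m + 1 - 4) = c at this k2
      simpa [k2] using this
    have := Nat.le_of_dvd (by omega) ((ZMod.natCast_eq_zero_iff _ _).1 k8)
    omega

end MaxCl

theorem MaxCl.exists_quot {G : Type u} [Group G] {p : ℕ} [hp : Fact p.Prime] {S : Subgroup G}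
    [Finite S] {n : ℕ} (h : MaxCl p S (n + 1)) (h4 : 4 ≤ n) :
    ∃ (Q : Type u) (_ : Group Q) (_ : Finite Q) (π : S →* Q), MaxCl p (⊤ : Subgroup Q) n ∧
      (∀ k, k + 1 ≤ n → ∀ x : S, π x ∈ (⊤ : Subgroup Q).lowerCentralSeries k ↔
        (x : G) ∈ S.lowerCentralSeries k) ∧ ∀ x : S, (x : G) ∈ gam S → π x ∈ gam ⊤ := by
  set K := S.lowerCentralSeries (n - 1)
  have : (K.subgroupOf S).Normal :=
    ⟨fun n hn g => H9.conj_mem_of_mem_normalizer (K := K) (lcs_norm S _ g.2) hn⟩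
  let π := QuotientGroup.mk' (K.subgroupOf S)
  have hπ : Function.Surjective π := QuotientGroup.mk'_surjective _
  have h1 : ∀ k, k + 1 ≤ n → ∀ x : S, π x ∈ (⊤ : Subgroup _).lowerCentralSeries k ↔
      (x : G) ∈ S.lowerCentralSeries k := fun k hk x => by
    have e : (⊤ : Subgroup S).lowerCentralSeries k = (S.lowerCentralSeries k).subgroupOf S := by
      rw [← top_subtype_lowerCentralSeries S k, subgroupOf, comap_map_eq_self_of_injective
        (subtype_injective S)]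
    rw [← map_top_of_surjective π hπ, ← map_lowerCentralSeries, e, ← mem_comap, comap_map_eq_self]
    · rfl
    · rw [QuotientGroup.ker_mk']
      exact comap_mono (S.lowerCentralSeries_antitone (by omega))
  refine ⟨_, inferInstance, inferInstance, π, ⟨(h.hS.of_surjective π hπ).to_subgroup ⊤, ?_,
    by omega, fun e => ?_⟩, h1, fun x hx => ⟨trivial, fun y hy => ?_⟩⟩
  · rw [card_top]
    exact index_eq_of_card (a := 1) hp.out.pos (by rw [h.card, add_comm])
      (by rw [card_subgroupOf_of_le (lcs_le S _), h.card_lcs (by omega) (by omega)]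
          congr 1; omega)
  · obtain ⟨x, hx, hx'⟩ := SetLike.exists_of_lt (h.lt (k := n - 2) (by omega))
    have := (h1 (n - 2) (by omega) ⟨x, lcs_le S _ hx⟩).2 hx
    rw [e, mem_bot, QuotientGroup.mk'_apply, QuotientGroup.eq_one_iff] at this
    exact hx' (lcs_anti S (by omega) this)
  · obtain ⟨y, rfl⟩ := hπ y
    rw [← map_commutatorElement, h1 3 h4]
    exact hx.2 y ((h1 1 (by omega) y).1 hy)

/-- Blackburn's theorem. -/
theorem MaxCl.twoStep {p : ℕ} [Fact p.Prime] (h5 : 5 ≤ p) {n : ℕ} {G : Type u} [Group G]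
    {S : Subgroup G} [Finite S] (h : MaxCl p S n) : TwoStep S n 4 := by
  induction n generalizing G with
  | zero => exact fun k _ hk => by omega
  | succ n ih =>
    intro k hk hn y hy t ht
    obtain ⟨Q, _, _, π, hQ, h1, h2⟩ := h.exists_quot (by omega)
    have h3 : TwoStep S (n + 1) 5 := fun k hk hn y hy t ht => by
      have := ih hQ k hk (by omega) _ ((h1 k (by omega) ⟨y, lcs_le S k hy⟩).2 hy) _ (h2 ⟨t, ht.1⟩ ht)
      rwa [← map_commutatorElement, h1 _ (by omega)] at this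
    rcases (by omega : k + 5 ≤ n + 1 ∨ k = 1 ∨ k = n + 1 - 4 ∧ 5 ≤ n) with h4 | rfl | ⟨rfl, h4⟩
    · exact h3 k hk h4 y hy t ht
    · exact commutator_mem_comm (ht.2 y hy)
    by_contra hne
    have h6 := h.step h5 (by omega) h3 hy ht hne
    have h7 := hQ.exc h5 (by omega) (ih hQ) ((h1 (n - 3) (by omega) ⟨y, lcs_le S _ hy⟩).2 hy)
      (h2 ⟨t, ht.1⟩ ht) fun e => hne (by
        have : π ⁅(⟨y, lcs_le S _ hy⟩ : S), (⟨t, ht.1⟩ : S)⁆ ∈ (⊤ : Subgroup Q).lowerCentralSeries (n - 1) := by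
          rw [map_commutatorElement, e]; exact one_mem _
        exact lcs_anti S (by omega) ((h1 _ (by omega) _).1 this))
    omega

end Cfsg.Agent.H9
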