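import Cfsg.Agent.Lib.H9.Focal

/-!
# Weights of automorphisms, and groups of order `p ^ 5`
-/

set_option autoImplicit false

open Subgroup
open scoped commutatorElement

namespace Cfsg.Agent.H9

open Cfsg.Agent.H1 Cfsg.Agent.H7 FusionSystem

section Wt

variable {G : Type*} [Group G] {p : ℕ} [hp : Fact p.Prime] {S L K : Subgroup G} {f : G → G}

/-- `f` acts on `L / K` as the `e`-th power map. -/
def Wt (f : G → G) (L K : Subgroup G) (e : ℤ) : Prop := ∀ y ∈ L, f y * (y ^ e)⁻¹ ∈ K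

theorem le_normalizer_of_relIndex_dvd [Finite L] (hL : IsPGroup p L) (hKL : K ≤ L)
    (h : K.relIndex L ∣ p) : L ≤ normalizer (K : Set G) := by
  rcases (Nat.dvd_prime hp.out).1 h with h | h
  · exact (relIndex_eq_one.1 h).trans le_normalizer
  · exact le_normalizer_of_relIndex_eq hL hKL h

theorem exists_wt [Finite S] (hS : IsPGroup p S) (hf : IsHomOn S f) (hL : L ≤ S) (hKL : K ≤ L)
    (hi : K.relIndex L ∣ p) (iL : ∀ y ∈ L, f y ∈ L) (iK : ∀ y ∈ K, f y ∈ K) : ∃ e, Wt f L K e := by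
  have : Finite L := finite_of_le hL
  have hn := le_normalizer_of_relIndex_dvd (hS.to_le hL) hKL hi
  obtain ⟨x, hx, e⟩ := exists_sup_zpowers_of_relIndex_dvd hKL hi
  obtain ⟨k, hk, i, h1⟩ := (mem_sup_zpowers (hn hx)).1 (e ▸ iL x hx)
  refine ⟨i, fun y hy => ?_⟩
  obtain ⟨l, hl, j, rfl⟩ := (mem_sup_zpowers (hn hx)).1 (e ▸ hy)
  have h2 := inv_zpow_mul_zpow_mem (zpow_mem (hn hx) i) hk j
  have h3 := inv_zpow_mul_zpow_mem (zpow_mem (hn hx) j) hl i
  rw [← zpow_mul, mul_comm j i] at h3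
  rw [← zpow_mul] at h2
  rw [hf.map_mul (hL (hKL hl)) (hL (zpow_mem hx j)), hf.map_zpow (hL hx), h1]
  simpa [mul_assoc] using K.mul_mem (iK l hl)
    (H9.conj_mem_of_mem_normalizer (zpow_mem (hn hx) (i * j)) (K.mul_mem (K.inv_mem h2) h3))

theorem modEq_of_wt (hS : IsPGroup p S) {y u : G} (hy : y ∈ S) (hyK : y ∉ K) {e e' : ℤ}
    (h : u * (y ^ e)⁻¹ ∈ K) (h' : u * (y ^ e')⁻¹ ∈ K) : e ≡ e' [ZMOD p] := by
  obtain ⟨k, hk⟩ := H9.exists_pow_eq_one hS hy
  by_contra hne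
  refine hyK (mem_of_zpow_mem_of_not_dvd (k := k) (hk ▸ K.one_mem) (i := e' - e)
    (fun h => hne (Int.modEq_iff_dvd.2 h)) ?_)
  simpa [zpow_sub, mul_assoc] using K.mul_mem (K.inv_mem h') h

omit hp in
theorem wt_comm (hK : S ≤ normalizer (K : Set G)) (hf : IsHomOn S f) (hm : ∀ x ∈ S, f x ∈ S)
    {x y : G} (hx : x ∈ S) (hy : y ∈ S) {i j : ℤ} (hc : ∀ g ∈ S, ⁅g, ⁅x, y⁆⁆ ∈ K)
    (h1 : ⁅f x * (x ^ i)⁻¹, y⁆ ∈ K) (h2 : ⁅x, f y * (y ^ j)⁻¹⁆ ∈ K)
    (h3 : ⁅f x * (x ^ i)⁻¹, f y * (y ^ j)⁻¹⁆ ∈ K) : f ⁅x, y⁆ * (⁅x, y⁆ ^ (i * j))⁻¹ ∈ K := by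
  have := commutator_bilin hK hx (S.mul_mem (hm x hx) (S.inv_mem (S.zpow_mem hx i))) hy
    (S.mul_mem (hm y hy) (S.inv_mem (S.zpow_mem hy j))) hc h1 h2 h3 i j
  rw [inv_mul_cancel_right, inv_mul_cancel_right, ← hf.map_commutatorElement hx hy] at this
  simpa [mul_assoc] using H9.conj_mem_of_mem_normalizer (hK (S.zpow_mem (lcs_le S 1
    (commutator_mem_commutator hx hy)) (i * j))) this

/-- Weights are multiplicative along commutators. -/
theorem wt_rel (hS : IsPGroup p S) {K₁ K₂ : Subgroup G} (hK : S ≤ normalizer (K : Set G))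
    (hf : IsHomOn S f) (hm : ∀ x ∈ S, f x ∈ S) {x y : G} (hx : x ∈ S) (hy : y ∈ S) {i j e : ℤ}
    (w1 : f x * (x ^ i)⁻¹ ∈ K₁) (w2 : f y * (y ^ j)⁻¹ ∈ K₂)
    (w3 : f ⁅x, y⁆ * (⁅x, y⁆ ^ e)⁻¹ ∈ K) (hne : ⁅x, y⁆ ∉ K) (hc : ∀ g ∈ S, ⁅g, ⁅x, y⁆⁆ ∈ K)
    (h1 : ∀ a ∈ K₁, ⁅a, y⁆ ∈ K) (h2 : ∀ b ∈ K₂, ⁅x, b⁆ ∈ K) (h3 : ∀ a ∈ K₁, ∀ b ∈ K₂, ⁅a, b⁆ ∈ K) :
    e ≡ i * j [ZMOD p] :=
  modEq_of_wt hS (lcs_le S 1 (commutator_mem_commutator hx hy)) hne w3
    (wt_comm hK hf hm hx hy hc (h1 _ w1) (h2 _ w2) (h3 _ w1 _ w2))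

theorem not_dvd_of_wt {y u : G} (hy : y ^ p ∈ K) (hu : u ∉ K) {e : ℤ} (h : u * (y ^ e)⁻¹ ∈ K) :
    ¬ (p : ℤ) ∣ e := by
  rintro ⟨c, rfl⟩
  rw [zpow_mul, zpow_natCast] at h
  exact hu ((mul_mem_cancel_right (K.inv_mem (K.zpow_mem hy c))).1 h)

omit hp in
theorem Wt.of_modEq {e e' : ℤ} (h : Wt f L K e) (he : e ≡ e' [ZMOD p]) (hL : ∀ y ∈ L, y ^ p ∈ K) :
    Wt f L K e' := fun y hy => by
  obtain ⟨c, hc⟩ := he.dvd
  have := K.mul_mem (h y hy) (K.inv_mem (K.zpow_mem (hL y hy) c))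
  rwa [← zpow_natCast, ← zpow_mul, ← hc, mul_assoc, ← mul_inv_rev, ← zpow_add,
    sub_add_cancel] at this

omit hp in
/-- The elements inverted modulo `Y`. -/
def negSub (hf : IsHomOn S f) (hm : ∀ x ∈ S, f x ∈ S) (Y : Subgroup G)
    (hY : S.lowerCentralSeries 1 ≤ Y) : Subgroup G where
  carrier := {g | g ∈ S ∧ g * f g ∈ Y}
  one_mem' := ⟨S.one_mem, by simp [hf.map_one]⟩
  mul_mem' {a b} ha hb := ⟨S.mul_mem ha.1 hb.1, by
    rw [hf.map_mul ha.1 hb.1]
    simpa [commutatorElement_def, mul_assoc] using Y.mul_mem (Y.mul_mem ha.2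
      (hY (commutator_mem_commutator (S.inv_mem (hm a ha.1)) hb.1))) hb.2⟩
  inv_mem' {a} ha := ⟨S.inv_mem ha.1, by
    rw [hf.map_inv ha.1]
    simpa [commutatorElement_def, mul_assoc] using Y.mul_mem (hY (commutator_mem_commutator
      (S.inv_mem ha.1) (S.inv_mem (hm a ha.1)))) (Y.inv_mem ha.2)⟩

theorem exists_inv_two (hodd : Odd p) : ∃ a : ℤ, a * 2 ≡ 1 [ZMOD p] := by
  obtain ⟨k, rfl⟩ := hodd
  exact ⟨-k, Int.modEq_iff_dvd.2 ⟨1, by push_cast; ring⟩⟩

theorem card_eq_pow_of_lt [Finite L] (hL : IsPGroup p L) {M : Subgroup G} (h1 : K < M) (h2 : M < L)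
    {n : ℕ} (hK : Nat.card K = p ^ n) (hc : Nat.card L = p ^ (n + 2)) :
    Nat.card M = p ^ (n + 1) := by
  have : Finite M := finite_of_le h2.le
  have a1 := mul_card_le_of_lt (hL.to_le h2.le) h1
  have a2 := mul_card_le_of_lt hL h2
  rw [hK, ← pow_succ'] at a1
  rw [hc, pow_succ'] at a2
  exact le_antisymm (Nat.le_of_mul_le_mul_left a2 hp.out.pos) a1

theorem relIndex_dvd_of_lt [Finite L] (hL : IsPGroup p L) {M : Subgroup G} (h1 : K < M) (h2 : M ≤ L)
    {n : ℕ} (hK : Nat.card K = p ^ n) (hc : Nat.card L = p ^ (n + 2)) : M.relIndex L ∣ p := by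
  rcases h2.lt_or_eq with h2 | rfl
  · rw [relIndex_eq_of_card h2.le (a := n + 1) (b := 1) hp.out.pos hc
      (card_eq_pow_of_lt hL h1 h2 hK hc), pow_one]
  · simp

theorem relIndex_dvd_of_lt' [Finite L] (hL : IsPGroup p L) {M : Subgroup G} (h1 : K ≤ M)
    (h2 : M < L) {n : ℕ} (hK : Nat.card K = p ^ n) (hc : Nat.card L = p ^ (n + 2)) :
    K.relIndex M ∣ p := by
  rcases h1.lt_or_eq with h1 | rfl
  · rw [relIndex_eq_of_card h1.le (a := n) (b := 1) hp.out.pos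
      (card_eq_pow_of_lt hL h1 h2 hK hc) hK, pow_one]
  · simp

end Wt

section Five

variable {G : Type*} [Group G] {p : ℕ} {S E Y : Subgroup G}

local notation "N" => normalizerIn S E
local notation "Z" => normalizerIn S E ⊓ centralizer (normalizerIn S E : Set G)

/-- A self-centralizing elementary abelian subgroup of order `p ^ 3` of a group of order `p ^ 5`
which is not normal. -/
structure Five0 (p : ℕ) (S E : Subgroup G) : Prop where
  hS : IsPGroup p S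
  card : Nat.card S = p ^ 5
  le : E ≤ S
  cardE : Nat.card E = p ^ 3
  comm : ∀ a ∈ E, ∀ b ∈ E, a * b = b * a
  pow : ∀ a ∈ E, a ^ p = 1
  cent : ∀ g ∈ S, (∀ x ∈ E, x * g = g * x) → g ∈ E
  cardN : Nat.card (normalizerIn S E) = p ^ 4

namespace Five0

variable [hp : Fact p.Prime] [Finite S]

theorem relIndex_N (h : Five0 p S E) : (N).relIndex S = p := by
  rw [relIndex_eq_of_card normalizerIn_le (a := 4) (b := 1) hp.out.pos h.card h.cardN, pow_one]

theorem norm_N (h : Five0 p S E) : S ≤ normalizer (N : Set G) :=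
  le_normalizer_of_relIndex_eq h.hS normalizerIn_le h.relIndex_N

theorem relIndex_E (h : Five0 p S E) : E.relIndex N = p := by
  rw [relIndex_eq_of_card (le_normalizerIn h.le) (a := 3) (b := 1) hp.out.pos h.cardN h.cardE,
    pow_one]

theorem abIdx (h : Five0 p S E) : AbIdx p N E :=
  ⟨h.hS.to_le normalizerIn_le, le_normalizerIn h.le, h.comm, h.relIndex_E, fun hc =>
    hp.out.one_lt.ne' (h.relIndex_E.symm.trans (relIndex_eq_one.2 fun g hg =>
      h.cent g hg.1 fun x hx => hc x (le_normalizerIn h.le hx) g hg))⟩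

omit hp [Finite S] in
theorem norm_Z' {N' : Subgroup G} (h : S ≤ normalizer (N' : Set G)) :
    S ≤ normalizer ((N' ⊓ centralizer (N' : Set G) : Subgroup G) : Set G) := fun g hg => by
  have key : ∀ g ∈ S, ∀ x ∈ N' ⊓ centralizer (N' : Set G),
      g * x * g⁻¹ ∈ N' ⊓ centralizer (N' : Set G) := fun g hg x hx =>
    ⟨H9.conj_mem_of_mem_normalizer (h hg) hx.1, fun n hn => by
      have := hx.2 _ (H9.conj_mem_of_mem_normalizer' (h hg) hn)
      calc n * (g * x * g⁻¹) = g * (g⁻¹ * n * g * x) * g⁻¹ := by group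
        _ = _ := by rw [this]; group⟩
  exact mem_normalizer_iff.2 fun x => ⟨key g hg x, fun hx => by
    simpa [mul_assoc] using key _ (S.inv_mem hg) _ hx⟩

theorem norm_Z (h : Five0 p S E) : S ≤ normalizer ((Z : Subgroup G) : Set G) := norm_Z' h.norm_N

theorem Z_le (h : Five0 p S E) : Z ≤ E :=
  have : Finite N := finite_of_le normalizerIn_le
  h.abIdx.center_le

theorem exists_not_mem (h : Five0 p S E) : ∃ b ∈ S, b ∉ N :=
  SetLike.not_le_iff_exists.1 fun h' => hp.out.one_lt.ne'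
    (h.relIndex_N.symm.trans (relIndex_eq_one.2 h'))

theorem cardZ (h : Five0 p S E) : Nat.card (Z : Subgroup G) = p ^ 2 := by
  have : Finite N := finite_of_le normalizerIn_le
  have : Finite E := finite_of_le h.le
  obtain ⟨b, hb, hbN⟩ := h.exists_not_mem
  obtain ⟨x, hx, hxE⟩ : ∃ x ∈ E, b * x * b⁻¹ ∉ E := by
    by_contra! h'
    exact hbN ⟨hb, mem_normalizer_of_conj_mem h'⟩
  have hle : E.map (MulAut.conj b : G →* G) ≤ N := by
    rintro _ ⟨e, he, rfl⟩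
    exact H9.conj_mem_of_mem_normalizer (h.norm_N hb) (le_normalizerIn h.le he)
  have h1 := card_eq_relIndex_mul' (K := E) (L := E.map (MulAut.conj b : G →* G))
  rw [card_map_of_injective (MulAut.conj b).injective, h.cardE,
    relIndex_eq_prime_of_le h.abIdx.hS hle h.relIndex_E.dvd fun h' => hxE (h' ⟨x, hx, rfl⟩),
    pow_succ', Nat.mul_right_inj hp.out.ne_zero] at h1
  have h2 : E ⊓ E.map (MulAut.conj b : G →* G) ≤ Z := by
    rintro _ ⟨h3, e, he, rfl⟩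
    refine h.abIdx.mem_center (hle ⟨x, hx, rfl⟩) hxE h3 ?_
    change MulAut.conj b x * MulAut.conj b e = MulAut.conj b e * MulAut.conj b x
    rw [← map_mul, ← map_mul, h.comm x hx e he]
  have : Finite (Z : Subgroup G) := finite_of_le h.Z_le
  refine le_antisymm ?_ (h1 ▸ card_le_of_le' h2)
  have h3 := mul_card_le_of_lt (h.hS.to_le h.le) (lt_of_le_of_ne h.Z_le fun e =>
    hxE (h.cent _ (hle ⟨x, hx, rfl⟩).1 fun y hy => ((e.ge hy).2 _ (hle ⟨x, hx, rfl⟩)).symm))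
  rw [h.cardE, pow_succ'] at h3
  exact Nat.le_of_mul_le_mul_left h3 hp.out.pos

theorem relIndex_Z (h : Five0 p S E) : (Z).relIndex E = p := by
  rw [relIndex_eq_of_card h.Z_le (a := 2) (b := 1) hp.out.pos h.cardE h.cardZ, pow_one]

theorem cardZ0 (h : Five0 p S E) : Nat.card (⁅N, N⁆ : Subgroup G) = p :=
  have : Finite N := finite_of_le normalizerIn_le
  h.abIdx.relIndex_center.symm.trans h.relIndex_Z

theorem norm_Z0 (h : Five0 p S E) : S ≤ normalizer ((⁅N, N⁆ : Subgroup G) : Set G) :=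
  h.norm_N.trans fun g hg => by
    rw [mem_normalizer_iff_map_conj_eq] at hg ⊢
    rw [map_commutator, hg]

theorem comm_Z0 (h : Five0 p S E) {g z : G} (hg : g ∈ S) (hz : z ∈ ⁅N, N⁆) : g * z = z * g :=
  commute_of_card_prime h.cardZ0 h.hS h.norm_Z0 hg hz

theorem Z0_le (h : Five0 p S E) : ⁅N, N⁆ ≤ Z := fun _ hz =>
  ⟨lcs_le _ 1 hz, fun _ hg => h.comm_Z0 hg.1 hz⟩

theorem relIndex_Z0 (h : Five0 p S E) : (⁅N, N⁆).relIndex Z = p := by
  rw [relIndex_eq_of_card h.Z0_le (a := 1) (b := 1) hp.out.pos h.cardZ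
    (by rw [pow_one, h.cardZ0]), pow_one]

theorem commutator_Z (h : Five0 p S E) {g z : G} (hg : g ∈ S) (hz : z ∈ Z) : ⁅g, z⁆ ∈ ⁅N, N⁆ :=
  commutator_mem_of_relIndex_prime h.hS (h.Z_le.trans h.le) h.norm_Z0 h.norm_Z h.Z0_le
    h.relIndex_Z0.dvd hg hz

theorem mem_E (h : Five0 p S E) {x q : G} (hx : x ∈ E) (hxZ : x ∉ Z) (hq : q ∈ N)
    (hc : q * x = x * q) : q ∈ E := by
  have : Finite N := finite_of_le normalizerIn_le
  by_contra h'
  exact hxZ (h.abIdx.mem_center hq h' hx hc)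

theorem sup_Z (h : Five0 p S E) {x : G} (hx : x ∈ E) (hxZ : x ∉ Z) : Z ⊔ zpowers x = E :=
  sup_zpowers_eq_of_relIndex_prime hp.out h.relIndex_Z h.Z_le hx hxZ

theorem not_commutator_mem (h : Five0 p S E) {x b : G} (hx : x ∈ E) (hxZ : x ∉ Z) (hb : b ∈ S)
    (hbN : b ∉ N) : ⁅x, b⁆ ∉ E := fun h' => by
  have : Finite E := finite_of_le h.le
  refine hbN ⟨hb, mem_normalizer_of_conj_mem fun e he => ?_⟩
  have := commutator_mem_comm (commutator_mem_of_sup_zpowers le_normalizer (h.sup_Z hx hxZ)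
    (fun z hz => commutator_mem_comm (h.Z_le (h.Z0_le (h.commutator_Z hb hz)))) h' he)
  simpa [commutatorElement_def] using E.mul_mem this he

end Five0

/-- `Five0` together with the normal subgroup `Y` of order `p ^ 3` between `Z(N)` and `N`. -/
structure Five (p : ℕ) (S E Y : Subgroup G) : Prop extends Five0 p S E where
  ZY : normalizerIn S E ⊓ centralizer (normalizerIn S E : Set G) ≤ Y
  YN : Y ≤ normalizerIn S E
  cardY : Nat.card Y = p ^ 3
  commY : ∀ g ∈ S, ∀ y ∈ Y, ⁅g, y⁆ ∈ normalizerIn S E ⊓ centralizer (normalizerIn S E : Set G)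

variable [hp : Fact p.Prime] [Finite S]

theorem Five0.exists_five (h : Five0 p S E) : ∃ Y, Five p S E Y := by
  obtain ⟨y, hy, hyZ, hyp, hc⟩ := exists_mem_commutator_mem_of_lt h.hS normalizerIn_le h.norm_Z
    h.norm_N (h.Z_le.trans_lt (lt_of_le_of_ne (le_normalizerIn h.le) fun e => hp.out.one_lt.ne'
      (h.relIndex_E.symm.trans (relIndex_eq_one.2 e.ge))))
  refine ⟨Z ⊔ zpowers y, h, le_sup_left, sup_le inf_le_left (zpowers_le.2 hy), ?_,
    fun g hg v hv => ?_⟩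
  · rw [card_sup_zpowers (h.norm_Z hy.1) hyZ hyp, h.cardZ, ← pow_succ]
  · exact commutator_mem_comm (commutator_mem_of_sup_zpowers ((sup_le (h.Z_le.trans h.le)
      (zpowers_le.2 hy.1)).trans h.norm_Z) rfl (fun z hz => commutator_mem_comm
        (h.Z0_le (h.commutator_Z hg hz))) (commutator_mem_comm (hc g hg)) hv)

namespace Five

theorem le_S (h : Five p S E Y) : Y ≤ S := h.YN.trans normalizerIn_le

theorem norm_Y (h : Five p S E Y) : S ≤ normalizer (Y : Set G) :=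
  le_normalizer_iff_commutator_le_right.2 (commutator_le.2 fun g hg y hy => h.ZY (h.commY g hg y hy))

theorem relIndex_ZY (h : Five p S E Y) : (Z).relIndex Y = p := by
  rw [relIndex_eq_of_card h.ZY (a := 2) (b := 1) hp.out.pos h.cardY h.cardZ, pow_one]

theorem relIndex_Y (h : Five p S E Y) : Y.relIndex N = p := by
  rw [relIndex_eq_of_card h.YN (a := 3) (b := 1) hp.out.pos h.cardN h.cardY, pow_one]

theorem comm_Y (h : Five p S E Y) {a b : G} (ha : a ∈ Y) (hb : b ∈ Y) : a * b = b * a :=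
  mul_comm_of_relIndex_dvd_prime h.ZY (fun _ hk _ hy => (hk.2 _ (h.YN hy)).symm) h.relIndex_ZY.dvd
    ha hb

theorem commutator_N (h : Five p S E Y) {g q : G} (hg : g ∈ S) (hq : q ∈ N) : ⁅g, q⁆ ∈ Y :=
  commutator_mem_of_relIndex_prime h.hS normalizerIn_le h.norm_Y h.norm_N h.YN h.relIndex_Y.dvd
    hg hq

theorem mem_Z (h : Five p S E Y) {y : G} (hy : y ∈ Y) (hyE : y ∈ E) : y ∈ Z := by
  by_contra h'
  obtain ⟨b, hb, hbN⟩ := h.exists_not_mem
  exact h.not_commutator_mem hyE h' hb hbN (h.Z_le (commutator_mem_comm (h.commY b hb y hy)))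

theorem exists_mem_E (h : Five p S E Y) : ∃ x ∈ E, x ∉ Z :=
  SetLike.not_le_iff_exists.1 fun h' => hp.out.one_lt.ne'
    (h.relIndex_Z.symm.trans (relIndex_eq_one.2 h'))

theorem exists_mem_Y (h : Five p S E Y) : ∃ y ∈ Y, y ∉ Z :=
  SetLike.not_le_iff_exists.1 fun h' => hp.out.one_lt.ne'
    (h.relIndex_ZY.symm.trans (relIndex_eq_one.2 h'))

theorem sup_Y (h : Five p S E Y) {q : G} (hq : q ∈ N) (hqY : q ∉ Y) : Y ⊔ zpowers q = N :=
  sup_zpowers_eq_of_relIndex_prime hp.out h.relIndex_Y h.YN hq hqY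

theorem sup_N (h : Five p S E Y) {b : G} (hb : b ∈ S) (hbN : b ∉ N) : N ⊔ zpowers b = S :=
  sup_zpowers_eq_of_relIndex_prime hp.out h.relIndex_N normalizerIn_le hb hbN

theorem not_commutator_mem' (h : Five p S E Y) {q b : G} (hq : q ∈ N) (hqY : q ∉ Y) (hb : b ∈ S)
    (hbN : b ∉ N) : ⁅q, b⁆ ∉ E := fun h' => by
  obtain ⟨x, hx, hxZ⟩ := h.exists_mem_E
  exact h.not_commutator_mem hx hxZ hb hbN (commutator_mem_of_sup_zpowers
    normalizerIn_le_normalizer (h.sup_Y hq hqY) (fun y hy => h.Z_le (commutator_mem_comm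
      (h.commY b hb y hy))) h' (le_normalizerIn h.le hx))

/-- Every element of `N` outside `Y` is conjugate into `E`. -/
theorem exists_conj_mem (h : Five p S E Y) {q : G} (hq : q ∈ N) (hqY : q ∉ Y) :
    ∃ g ∈ S, g * q * g⁻¹ ∈ E := by
  have : Finite N := finite_of_le normalizerIn_le
  obtain ⟨b, hb, hbN⟩ := h.exists_not_mem
  have h1 := h.commutator_N hb hq
  obtain ⟨i, hi⟩ := exists_zpow_mul_mem h.abIdx.hS h.abIdx.le h.relIndex_E.dvd (h.YN h1)
    (fun h' => h.not_commutator_mem' hq hqY hb hbN (commutator_mem_comm h')) hq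
  have h2 := commutator_bilin h.norm_Z hb S.one_mem hq.1 S.one_mem (fun g hg => h.commY g hg _ h1)
    (by simp) (by simp) (by simp) i 1
  refine ⟨b ^ i, S.zpow_mem hb i, ?_⟩
  have h3 := E.mul_mem hi (H9.conj_mem_of_mem_normalizer' hq.2 (h.Z_le h2))
  simpa [commutatorElement_def b, commutatorElement_def (b ^ i), mul_assoc] using h3

end Five

end Five

section Fusion

variable {p : ℕ} {Ω : Type*} [Group Ω] {S : Subgroup Ω} {F : FusionSystem S} {E Y : Subgroup Ω}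
  {M : Subgroup (MulAut E)} [hp : Fact p.Prime] [Finite S]

local notation "N" => normalizerIn S E
local notation "Z" => normalizerIn S E ⊓ centralizer (normalizerIn S E : Set Ω)

theorem EssCtx.five0 (h : EssCtx p F E M) (hc : Nat.card S = p ^ 5) (hE : Nat.card E = p ^ 3)
    (hea : IsElementaryAbelian p E) : Five0 p S E := by
  have := h.finite
  obtain ⟨hcomm, hpow⟩ := isElementaryAbelian_iff.1 hea
  refine ⟨h.hS, hc, h.le, hE, hcomm, hpow, fun g => h.mem_of_comm, ?_⟩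
  rcases (normalizerIn_le : N ≤ S).lt_or_eq with h1 | h1
  · exact card_eq_pow_of_lt h.hS (lt_normalizerIn h.hS h.lt) h1 hE hc
  exfalso
  have hn : S ≤ normalizer (E : Set Ω) := h1.ge.trans normalizerIn_le_normalizer
  have hlt : ∀ {K : Subgroup Ω} {k : ℕ}, K ≤ E → Nat.card K = p ^ k → k < 3 → K < E :=
    fun h2 h3 h4 => lt_of_le_of_ne h2 fun e => h4.ne
      (Nat.pow_right_injective hp.out.two_le (h3.symm.trans (e ▸ hE)))
  obtain ⟨z, hz, hz1, hzp, hzc⟩ := exists_mem_centralizer_ne_one h.isPGroup h.hS hn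
    (hlt (k := 0) bot_le (by simp) (by omega)).ne'
  have hZ := card_zpowers_of_pow_prime hzp hz1
  have nZ : S ≤ normalizer (zpowers z : Set Ω) := le_normalizer_iff_commutator_le_right.2
    (commutator_le.2 fun g hg _ ⟨i, e⟩ => e ▸ commutator_mem_of_comm _
      (Commute.zpow_right (hzc g hg) i))
  obtain ⟨y, hy, hyZ, hyp, hyc⟩ := exists_mem_commutator_mem_of_lt h.hS h.le nZ hn
    (hlt (k := 1) (zpowers_le.2 hz) (by rwa [pow_one]) (by omega))
  have hK := sup_le (zpowers_le.2 hz) (zpowers_le.2 hy)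
  have cK : Nat.card (zpowers z ⊔ zpowers y : Subgroup Ω) = p ^ 2 := by
    rw [card_sup_zpowers (nZ (h.le hy)) hyZ hyp, hZ, sq]
  have tK : ∀ g ∈ S, ∀ v ∈ zpowers z ⊔ zpowers y, ⁅v, g⁆ ∈ zpowers z := fun g hg v hv =>
    commutator_mem_of_sup_zpowers ((hK.trans h.le).trans nZ) rfl (fun _ ⟨i, e⟩ => e ▸
      commutator_mem_of_comm _ (Commute.zpow_right (hzc g hg) i).symm)
      (commutator_mem_comm (hyc g hg)) hv
  have iK : (zpowers z ⊔ zpowers y).relIndex E = p := by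
    rw [relIndex_eq_of_card hK (a := 2) (b := 1) hp.out.pos hE cK, pow_one]
  obtain ⟨x, hx, hxK⟩ := SetLike.exists_of_lt (hlt hK cK (by omega))
  have : Finite (zpowers z ⊔ zpowers y : Subgroup Ω) := finite_of_le hK
  have h2 := relIndex_cmod_le (x := x) nZ fun g hg => commutator_mem_of_relIndex_prime h.hS h.le
    (le_normalizer_iff_commutator_le_left.2 (commutator_le.2 fun v hv g hg =>
      mem_sup_left (tK g hg v hv))) hn hK iK.dvd hg hx
  rw [relIndex_sup_zpowers (nZ (h.le hy)) hyZ hyp] at h2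
  have h45 : ¬ p ^ 5 ≤ p * p ^ 3 := by
    rw [← pow_succ', Nat.pow_le_pow_iff_right hp.out.one_lt]; omega
  obtain ⟨g, ⟨hg1, hg⟩, hgE⟩ : ∃ g ∈ cmod (zpowers z) x ⊓ S, g ∉ E := by
    by_contra! h'
    refine h45 ?_
    rw [← hc, card_eq_relIndex_mul' (K := cmod (zpowers z) x), ← hE]
    exact Nat.mul_le_mul h2 (card_le_of_le' h')
  obtain ⟨α, hα, hαM⟩ := h.data.exists_not_mem
  have h3 := TPair.relIndex_le (D := ⊤) (t := conjAut E (hn hg)) (z := ⟨z, hz⟩)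
    ⟨h.data, h.isPGroup, AInv.top _, mem_top _, fun e => hz1 (congrArg Subtype.val e),
      Subtype.ext hzp, mem_center_iff.2 fun v => Subtype.ext (hzc v (h.le v.2)),
      conjAut_mem_autInducedBy hg _, fun h' => hgE (h.mem_of_inn hg _ h'), TrivOn.top_top _,
      zpowers_subtype_eq hz ▸ trivOn_conjAut_top _ fun v hv => commutator_mem_of_sup_zpowers
        (h.le.trans nZ) (sup_zpowers_eq_of_relIndex_prime hp.out iK hK hx hxK) (tK g hg)
        (commutator_mem_comm hg1.2) hv,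
      (conjAut_eq_self_iff _).2 (hzc g hg), hα, hαM⟩
  rw [inn_eq_bot_of_comm hcomm, relIndex_bot_left] at h3
  refine h45 ?_
  rw [← hc, ← h1, card_normalizerIn, ← hE]
  exact Nat.mul_le_mul h3 (card_le_of_le' fun g hg => h.mem_of_comm hg.1 hg.2)

theorem EssCtx.exists_aPair' (h : EssCtx p F E M) (comm : ∀ a ∈ E, ∀ b ∈ E, a * b = b * a)
    {Z₀ : Subgroup Ω} (hZ : Nat.card Z₀ = p) (hZS : Z₀ ≤ S ⊓ centralizer (S : Set Ω)) {g : Ω}
    (hg : g ∈ N) (hgE : g ∉ E) (gen : E ⊔ zpowers g = N) (hc : ∀ x ∈ E, ⁅x, g⁆ ∈ Z₀) :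
    autInducedBy S E = zpowers (conjAut E hg.2) ∧ ∃ (α : MulAut E) (z : E),
      zpowers (z : Ω) = Z₀ ∧ APair p (F.autGroup E) (conjAut E hg.2) α z := by
  have := h.finite
  have hI := inn_eq_bot_of_comm comm
  have hT : autInducedBy S E = zpowers (conjAut E hg.2) := by
    refine le_antisymm (fun s hs => ?_) (zpowers_le.2 (conjAut_mem_autInducedBy hg.1 _))
    obtain ⟨a, ha, hn, rfl⟩ := exists_eq_conjAut hs
    obtain ⟨e, he, i, rfl⟩ := (mem_sup_zpowers hg.2).1 (gen.ge ⟨ha, hn⟩)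
    have h1 : conjAut E (le_normalizer he) = 1 := mem_bot.1 (hI ▸ conjAut_mem_inn he _)
    refine ⟨i, ?_⟩
    simp only
    rw [← conjAut_zpow, ← one_mul (conjAut _ _), ← h1, ← conjAut_mul]
  obtain ⟨z, hz1, hzp, rfl⟩ := exists_zpowers_eq_of_card_prime hZ
  have hzZ := hZS (mem_zpowers z)
  have hzE : z ∈ E := h.center_le hzZ
  have ht : conjAut E hg.2 ∉ Inn E := fun h' => hgE (h.mem_of_inn hg.1 _ h')
  have h1 : TrivOn (conjAut E hg.2) ⊤ (zpowers (⟨z, hzE⟩ : E)) :=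
    zpowers_subtype_eq hzE ▸ trivOn_conjAut_top hg.2 hc
  have h2 : conjAut E hg.2 ⟨z, hzE⟩ = ⟨z, hzE⟩ := (conjAut_eq_self_iff _).2 (hzZ.2 g hg.1)
  have hzp' : (⟨z, hzE⟩ : E) ^ p = 1 := Subtype.ext hzp
  have h3 : conjAut E hg.2 ^ p = 1 := MulEquiv.ext fun x => TrivOn.bot_iff.1
    (h1.pow_of_two_step (trivOn_zpowers_bot h2) (AInv.bot _ _ (mem_top _)) (n := p) (by
      rintro _ ⟨i, rfl⟩
      simp only
      rw [← zpow_natCast, ← zpow_mul, mul_comm, zpow_mul, zpow_natCast, hzp', one_zpow]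
      exact one_mem _)) x (mem_top x)
  have hd := h.data.normalizer_version (normalIn_inn h.rad.inn_le) (by
    rw [hI, relIndex_bot_left, hT]
    exact card_zpowers_of_pow_prime h3 fun h' => ht (h' ▸ one_mem _))
  rw [hT] at hd
  obtain ⟨α, hα, hαM⟩ := hd.exists_not_mem
  exact ⟨hT, α, ⟨z, hzE⟩, rfl, hd, h.isPGroup, AInv.top _, mem_top _,
    fun h' => hz1 (congrArg Subtype.val h'), hzp',
    mem_center_iff.2 fun x => Subtype.ext (hzZ.2 x (h.le x.2)), mem_zpowers _, ht,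
    TrivOn.top_top _, h1, h2, hα, hαM⟩

theorem EssCtx.five_data (h : EssCtx p F E M) (h5 : Five p S E Y) :
    (∃ C : Subgroup E, AInv (F.autGroup E) C ∧ Nat.card C = p) ∧ ∃ x ∈ E, x ∉ Z ∧ ∃ w ∈ Z,
      w ∉ ⁅N, N⁆ ∧ ∀ a d : ℤ, a * d ≡ 1 [ZMOD p] → ∃ f, F.IsIso N N f ∧
        (∀ z ∈ ⁅N, N⁆, f z = z ^ a) ∧ f x = x ^ d ∧ f w = w := by
  have := h.finite
  have : Finite N := finite_of_le normalizerIn_le
  obtain ⟨y, hy, hyZ⟩ := h5.exists_mem_Y
  have hyE : y ∉ E := fun h' => hyZ (h5.mem_Z hy h')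
  obtain ⟨hT, α, z, hz, hA⟩ := h.exists_aPair' h5.comm h5.cardZ0
    (fun z hz => ⟨(lcs_le _ 1 hz).1, fun g hg => h5.comm_Z0 hg hz⟩) (h5.YN hy) hyE
    (h5.abIdx.sup_eq (h5.YN hy) hyE)
    fun x hx => commutator_mem_commutator (h5.abIdx.le hx) (h5.YN hy)
  set t := conjAut E (h5.YN hy).2
  have hfix : fixSub t = (Z).subgroupOf E := Subgroup.ext fun x =>
    ⟨fun hx => h5.abIdx.mem_center (h5.YN hy) hyE x.2 ((conjAut_eq_self_iff _).1 hx),
      fun hx => (conjAut_eq_self_iff _).2 (hx.2 y (h5.YN hy))⟩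
  have hc : Nat.card (fixSub t) = p ^ (0 + 2) := by
    rw [hfix, card_subgroupOf_of_le h5.Z_le, h5.cardZ]
  have hne : ⊥ < fixSub t ⊓ fixSub (α * t * α⁻¹) := bot_lt_iff_ne_bot.2 fun e => by
    have h1 := card_le_of_le' (hA.fix_le.trans_eq (by rw [e, sup_bot_eq]))
    rw [hc, card_zpowers_of_pow_prime hA.z_pow hA.z_ne] at h1
    exact h1.not_gt (lt_self_pow₀ hp.out.one_lt (by omega))
  obtain ⟨w, hw, hw1⟩ := SetLike.exists_of_lt hne
  refine ⟨⟨_, hA.invW, ?_⟩, α z, (α z).2, fun h' => hA.t_ne (hfix.ge h'), w, hfix.le hw.1,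
    fun h' => hw1 (hA.inf_eq_bot.le ⟨?_, hw⟩), fun a d had => ?_⟩
  · simpa using card_eq_pow_of_lt (h.isPGroup.to_subgroup _) hne (lt_of_le_of_ne inf_le_left
      fun e => hA.u_ne (e.ge hA.t3).2) (n := 0) (by simp) hc
  · rw [← zpowers_subtype_eq z.2, hz]; exact h'
  · obtain ⟨δ, hδ, e1, e2, e3⟩ := hA.exists_diag had
    rw [inn_eq_bot_of_comm h5.comm, mem_bot, inv_mul_eq_one] at e3
    obtain ⟨f, hf, e⟩ := h.exists_isIso_normalizerIn (hA.B_le hδ) (by
      rw [hT]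
      refine mem_normalizer_of_conj_mem ?_
      rintro _ ⟨i, rfl⟩
      simp only
      rw [← conj_zpow, ← e3]
      exact zpow_mem (zpow_mem (mem_zpowers t) _) i)
    refine ⟨f, hf, fun v hv => ?_, by rw [e, e2, coe_zpow], by rw [e, hA.fix hδ hw]⟩
    obtain ⟨i, rfl⟩ := hz.ge hv
    simp only
    rw [hf.mor.map_zpow (h5.abIdx.le z.2), e, e1, coe_zpow, ← zpow_mul, ← zpow_mul, mul_comm]

theorem EssCtx.map_mem_Y (h : EssCtx p F E M) (h5 : Five p S E Y) {f : Ω → Ω} (hf : F.IsIso N N f)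
    {y : Ω} (hy : y ∈ Y) : f y ∈ Y := by
  have := h.finite
  by_contra hne
  have hyZ : y ∉ Z := fun h' => hne (h5.ZY (IsIso.map_center hf h'))
  obtain ⟨g, hg, h1⟩ := h5.exists_conj_mem (hf.mapsTo y (h5.YN hy)) hne
  have hk := ((F.isMor_conj le_rfl hg).comp' hf.mor fun x hx => hf.mor.mem hx).mono h5.YN
  have e := sup_zpowers_eq_of_relIndex_prime hp.out h5.relIndex_ZY h5.ZY hy hyZ
  have h2 := h.ess.isFullyNormalized.2 Y (hk.isIso_of_card_le (Q := E) (by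
    rw [← e] at hk ⊢
    refine hk.isHomOn.mapsTo_sup (fun z hz => h5.Z_le (H9.conj_mem_of_mem_normalizer
      (h5.norm_Z hg) (IsIso.map_center hf hz))) ?_
    rintro _ ⟨i, rfl⟩
    simp only
    rw [hf.mor.map_zpow (h5.YN hy), ← conj_zpow]
    exact E.zpow_mem h1 i) (by rw [h5.cardE, h5.cardY])).isConj.symm
  rw [show normalizerIn S Y = S from inf_eq_left.2 h5.norm_Y, h5.card, h5.cardN,
    Nat.pow_le_pow_iff_right hp.out.one_lt] at h2
  omega

theorem EssCtx.five_ext (h : EssCtx p F E M) (h5 : Five p S E Y) {f : Ω → Ω}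
    (hf : F.IsIso N N f) : ∃ g, F.IsIso S S g ∧ ∀ x ∈ N, g x = f x := by
  let C : ℕ → Subgroup Ω := fun i => match i with
    | 0 => ⊥ | 1 => ⁅N, N⁆ | 2 => Z | 3 => Y | _ + 4 => N
  obtain ⟨k, hk, e⟩ := exists_ext_of_chain h.hS h.sat
    (F.isFullyNormalized_of_le_normalizer normalizerIn_le h5.norm_N) (C := C)
    (monotone_nat_of_le_succ fun i => match i with
      | 0 => bot_le | 1 => h5.Z0_le | 2 => h5.ZY | 3 => h5.YN | _ + 4 => le_rfl)
    (inf_bot_eq _) (n := 4) le_rfl (fun f hf i x hx => match i with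
      | 0 => fun h' => by rw [mem_bot.1 h', hf.mor.map_one]; exact one_mem _
      | 1 => IsIso.map_commutator hf
      | 2 => IsIso.map_center hf
      | 3 => h.map_mem_Y h5 hf
      | _ + 4 => hf.mapsTo x) (fun g hg _ i x hx => match i with
      | 0 => fun h' => commutator_mem_of_comm _ (h5.comm_Z0 hg (inv_mem h')).symm
      | 1 => fun h' => commutator_mem_comm (h5.commutator_Z hg (inv_mem h'))
      | 2 => fun h' => commutator_mem_comm (h5.commY g hg _ (inv_mem h'))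
      | 3 => fun h' => commutator_mem_comm (h5.commutator_N hg (inv_mem h'))
      | _ + 4 => fun h' => h5.YN (commutator_mem_comm (h5.commutator_N hg (inv_mem h')))) hf
  rw [show normalizerIn S N = S from inf_eq_left.2 h5.norm_N] at hk
  exact ⟨k, hk.isIso_top, e⟩

end Fusion

end Cfsg.Agent.H9
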