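import Cfsg.Agent.Lib.H9.G3L

/-! Two normal essential subgroups in sectional rank three. -/

set_option autoImplicit false
set_option linter.unusedSectionVars false
set_option linter.style.haveILetI false
set_option linter.unusedSimpArgs false

open Subgroup
open scoped commutatorElement

namespace Cfsg.Agent.H9
open Cfsg.Agent.H1 Cfsg.Agent.H7 FusionSystem

variable {p : ℕ} {Ω : Type*} [Group Ω] {S : Subgroup Ω} {F : FusionSystem S} {E₁ E₂ : Subgroup Ω}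
  [hp : Fact p.Prime] [Finite S]

theorem subgroupOf_ne {N : Subgroup Ω} (h₁ : E₁ ≤ N) (h₂ : E₂ ≤ N) (hne : E₁ ≠ E₂) :
    E₁.subgroupOf N ≠ E₂.subgroupOf N := fun e => hne (by
  rw [← map_subgroupOf_eq_of_le h₁, e, map_subgroupOf_eq_of_le h₂])

theorem card_subgroupOf_of_le {N : Subgroup Ω} (h₁ : E₁ ≤ N) :
    Nat.card (E₁.subgroupOf N) = Nat.card E₁ := Nat.card_congr (subgroupOfEquivOfLe h₁).toEquiv

theorem sp_of_ti_of_slt (hodd : Odd p) (hS : IsPGroup p S) (hr : SR p 3 S) (hne : E₁ ≠ E₂)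
    (hE₁ : E₁ ≤ S) (hE₂ : F.IsEssential p E₂) {W : Subgroup S} (h₁ : TI p (E₁.subgroupOf S) W)
    {n m : S → S} {t : MulAut S} (h₂ : SLT p (F.autGroup S) (E₂.subgroupOf S) n m t) :
    (∃ P : Sylow p ↥(Matrix.symplecticGroup (Fin 2) (ZMod p)),
        Nonempty (↥S ≃* ↥(P : Subgroup ↥(Matrix.symplecticGroup (Fin 2) (ZMod p))))) ∧
      (IsExtraspecial p ↥E₂ ∧ Nat.card E₂ = p ^ 3 ∧ (∀ x ∈ E₂, x ^ p = 1) ∧
          IsElementaryAbelian p E₁ ∧ Nat.card E₁ = p ^ 3) := by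
  have hE₂S : E₂ ≤ S := hE₂.1.le
  have hne' := subgroupOf_ne hE₁ hE₂S hne
  obtain rfl := h₁.eq_of_sld h₂.sld h₂.ne hr hne'
  have c₁ := h₁.card
  have c₂ : Nat.card (E₂.subgroupOf S) = p ^ 3 := card_eq_of_index (b := 1) hp.out.pos (by
    rw [← (E₁.subgroupOf S).card_mul_index, c₁, h₁.index, ← pow_succ]) (by
    simpa using h₂.sld.index)
  obtain ⟨s, hs, hs'⟩ := exists_mem_not_mem_of_index h₂.sld.index h₁.index hne'.symm
  obtain ⟨s', hs₁, hs₁'⟩ := exists_mem_not_mem_of_index h₁.index h₂.sld.index hne'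
  rw [card_subgroupOf_of_le hE₂S] at c₂
  have := finite_of_le hE₂S
  obtain ⟨τ, hτ⟩ := exists_radT hS hE₂
  rcases hτ.card_cube c₂ with h | ⟨-, h, h'⟩ | ⟨h, -⟩
  · have hc := (isElementaryAbelian_iff.1 (Phi_subgroup_top_eq_bot_iff.1 h)).1
    exact (h₁.not_sq_le hs' inf_le_left (fun x hx => Subtype.ext (hc _ hx.2 _ hs))
      (TI.card_inf hS h₂.sld.index c₁ fun e => hs₁' (e hs₁)).ge).elim
  · have hea := isElementaryAbelian_iff.1 h₁.ea
    exact ⟨h₁.sylow_sp hodd (Subtype.ext (congrArg Subtype.val (h' ⟨s, hs⟩) :)) hs', h, c₂,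
      fun x hx => congrArg Subtype.val (h' ⟨x, hx⟩), isElementaryAbelian_iff.2
        ⟨fun a ha b hb => congrArg Subtype.val (hea.1 ⟨a, hE₁ ha⟩ ha ⟨b, hE₁ hb⟩ hb),
          fun a ha => congrArg Subtype.val (hea.2 ⟨a, hE₁ ha⟩ ha)⟩,
      by rwa [card_subgroupOf_of_le hE₁] at c₁⟩
  · subst h
    exact absurd hodd (by decide)

theorem two_normal (hodd : Odd p) (hS : IsPGroup p S) (hr : SR p 3 S) (hr' : ¬ SR p 2 S)
    (hF : F.IsSaturated p) (hO : F.core = ⊥) (hne : E₁ ≠ E₂) (hE₁ : F.IsEssential p E₁)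
    (hE₂ : F.IsEssential p E₂) (hn₁ : S ≤ normalizer (E₁ : Set Ω))
    (hn₂ : S ≤ normalizer (E₂ : Set Ω)) :
    (∃ P : Sylow p ↥(Matrix.symplecticGroup (Fin 2) (ZMod p)),
        Nonempty (↥S ≃* ↥(P : Subgroup ↥(Matrix.symplecticGroup (Fin 2) (ZMod p))))) ∧
      ((IsExtraspecial p ↥E₁ ∧ Nat.card E₁ = p ^ 3 ∧ (∀ x ∈ E₁, x ^ p = 1) ∧
          IsElementaryAbelian p E₂ ∧ Nat.card E₂ = p ^ 3) ∨
        (IsExtraspecial p ↥E₂ ∧ Nat.card E₂ = p ^ 3 ∧ (∀ x ∈ E₂, x ^ p = 1) ∧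
          IsElementaryAbelian p E₁ ∧ Nat.card E₁ = p ^ 3)) := by
  obtain ⟨M₁, h₁⟩ := exists_essCtx hS hF hE₁
  obtain ⟨M₂, h₂⟩ := exists_essCtx hS hF hE₂
  have hne' := subgroupOf_ne h₁.le h₂.le hne
  rcases h₁.dichotomy hodd (inf_eq_left.2 hn₁) hr with ⟨n₁, m₁, t₁, a₁⟩ | ⟨W₁, a₁⟩ <;>
    rcases h₂.dichotomy hodd (inf_eq_left.2 hn₂) hr with ⟨n₂, m₂, t₂, a₂⟩ | ⟨W₂, a₂⟩
  · exfalso
    obtain ⟨k, hk, j, hj⟩ := exists_coprime_pow_pElt (p := p) (isOfFinOrder_of_finite (t₁ * t₂))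
    obtain ⟨g, hg⟩ := mem_inn_of_pElt hS hF (pow_mem (mul_mem a₁.mem a₂.mem) k) hj
    have hi := Amal.center_index ⟨a₁.sld, a₂.sld, hne', hr⟩ a₁.ne a₂.ne hk (g := g)
      fun x => by rw [← hg]; rfl
    have hc := card_center_of_index_sq_odd hS hF hodd hO
      (by rw [inf_relIndex_left, ← index_center_eq, hi])
    rw [← card_center_eq] at hc
    refine hr' (sr_of_card (by rw [← (center S).card_mul_index, hc, hi]; ring) fun hab => ?_)
    rw [center_eq_top, index_top] at hi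
    exact absurd hi.symm (Nat.pow_eq_one.not.2 (by simp [hp.out.ne_one]))
  · exact (sp_of_ti_of_slt hodd hS hr hne.symm h₂.le hE₁ a₂ a₁).imp_right Or.inl
  · exact (sp_of_ti_of_slt hodd hS hr hne h₁.le hE₂ a₁ a₂).imp_right Or.inr
  · exact absurd (a₁.unique a₂ hr) hne'

theorem le_normalizer_of_aut {E : Subgroup Ω} (hE : E ≤ S)
    (hc : ∀ φ : MulAut S, φ ∈ F.autGroup S → (E.subgroupOf S).map φ.toMonoidHom = E.subgroupOf S) :
    S ≤ normalizer (E : Set Ω) := fun g hg => by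
  have := finite_of_le hE
  refine mem_normalizer_of_conj_mem fun x hx => ?_
  have h1 := hc (MulAut.conj ⟨g, hg⟩) (F.inn_le_autGroup le_rfl ⟨_, rfl⟩)
  exact (h1.le ⟨⟨x, hE hx⟩, hx, rfl⟩ :)

theorem ne_bot_of_not_sr (hr' : ¬ SR p 2 S) : S ≠ ⊥ := by
  rintro rfl
  exact hr' fun H K _ _ => by
    rw [Subsingleton.elim K H, relIndex_self]; exact Nat.one_le_pow _ _ hp.out.pos

end Cfsg.Agent.H9
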