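import Cfsg.Agent.Lib.H9.G3M

/-! Weight arguments for a non-normal essential subgroup: abstract lemmas. -/

set_option autoImplicit false
set_option linter.unusedSectionVars false
set_option linter.style.haveILetI false
set_option linter.unusedSimpArgs false

open Subgroup
open scoped commutatorElement

namespace Cfsg.Agent.H9
open Cfsg.Agent.H1 Cfsg.Agent.H7 FusionSystem

variable {G : Type*} [Group G] {p : ℕ} [hp : Fact p.Prime]

theorem mem_of_wt {K : Subgroup G} {v w : G} (hv : v ^ p ∈ K) {i j : ℕ} (h1 : (v ^ i)⁻¹ * w ∈ K)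
    (h2 : (v ^ j)⁻¹ * w ∈ K) (hij : ¬ i ≡ j [MOD p]) : v ∈ K := by
  refine mem_of_zpow_mem_of_not_dvd (k := 1) (by rwa [pow_one]) (i := (j : ℤ) - i)
    (fun h => hij ((Nat.modEq_iff_dvd).2 h)) ?_
  have := K.mul_mem h1 (K.inv_mem h2)
  rwa [mul_inv_rev, inv_inv, mul_assoc, mul_inv_cancel_left, ← zpow_natCast, ← zpow_natCast,
    ← zpow_neg, ← zpow_add, neg_add_eq_sub] at this

theorem eq_one_of_pow_eq {v : G} (hv : v ^ p = 1) {i : ℕ} (h : v = v ^ i) (hi : ¬ i ≡ 1 [MOD p]) :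
    v = 1 :=
  mem_bot.1 (mem_of_wt (K := ⊥) (w := v) hv (i := i) (j := 1) (by rw [← h]; simp) (by simp) hi)

theorem wt_sup {τ : G →* G} {K : Subgroup G} [hK : K.Normal] (hτ : ∀ x ∈ K, τ x ∈ K) {c : G}
    {a : ℕ} (hc : (c ^ a)⁻¹ * τ c ∈ K) {v : G} (hv : v ∈ K ⊔ zpowers c) :
    (v ^ a)⁻¹ * τ v ∈ K := by
  obtain ⟨k, hk, i, rfl⟩ := (mem_sup_zpowers (le_normalizer_of_normal' hK c)).1 hv
  rw [← QuotientGroup.eq] at hc ⊢
  simp only [map_mul, map_zpow, QuotientGroup.mk_mul, QuotientGroup.mk_pow, QuotientGroup.mk_zpow,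
    (QuotientGroup.eq_one_iff _).2 hk, (QuotientGroup.eq_one_iff _).2 (hτ k hk), one_mul, ← hc]
  rw [← zpow_natCast, ← zpow_natCast, ← zpow_mul, ← zpow_mul, mul_comm]

/-- The data for the weight argument. -/
structure W4 (p : ℕ) (τ : G →* G) (a : ℕ) (K₀ K₁ K₂ K₃ : Subgroup G) : Prop where
  hG : IsPGroup p G
  h01 : K₀ ≤ K₁
  h12 : K₁ ≤ K₂
  h23 : K₂ ≤ K₃
  r1 : K₀.relIndex K₁ = p
  r2 : K₁.relIndex K₂ = p
  r3 : K₂.relIndex K₃ = p
  comm : ∀ x ∈ K₃, ∀ y ∈ K₃, ⁅x, y⁆ ∈ K₀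
  w1 : ∀ v ∈ K₁, (v ^ a)⁻¹ * τ v ∈ K₀
  w2 : ∀ v ∈ K₂, (v ^ (a * a))⁻¹ * τ v ∈ K₁
  w3 : ∀ v ∈ K₃, (v ^ (a * a * a))⁻¹ * τ v ∈ K₂
  act : ∃ w, (∀ v ∈ K₃, v⁻¹ * (w * v * w⁻¹) ∈ K₂) ∧
    ∃ u ∈ K₂, u⁻¹ * (w * u * w⁻¹) ∈ K₁ ∧ u⁻¹ * (w * u * w⁻¹) ∉ K₀

/-- Generic weights. -/
structure GenW (p a : ℕ) : Prop where
  h1 : ¬ a ≡ 1 [MOD p]
  h2 : ¬ a * a ≡ 1 [MOD p]
  h3 : ¬ a * a * a ≡ 1 [MOD p]
  h5 : ¬ a * a * a * (a * a) ≡ 1 [MOD p]
  h21 : ¬ a * a ≡ a [MOD p]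
  h31 : ¬ a * a * a ≡ a [MOD p]
  h32 : ¬ a * a * a ≡ a * a [MOD p]
  inv : ∃ b, a * b ≡ 1 [MOD p]

theorem exists_genW (h5 : 5 ≤ p) : ∃ a, GenW p a := by
  have key : ∀ a : ℕ, ¬ p ∣ a → ¬ a * a ≡ 1 [MOD p] → ¬ a * a * a ≡ 1 [MOD p] →
      ¬ a * a * a * (a * a) ≡ 1 [MOD p] → GenW p a := fun a h0 h2 h3 h5 => by
    have hc : a.Coprime p := ((Nat.Prime.coprime_iff_not_dvd hp.out).2 h0).symm
    have h1 : ¬ a ≡ 1 [MOD p] := fun e => h2 (by simpa using e.mul e)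
    refine ⟨h1, h2, h3, h5, fun e => h1 ?_, fun e => h2 ?_, fun e => h1 ?_,
      Nat.exists_mul_mod_eq_one_of_coprime hc hp.out.one_lt |>.imp fun b hb => ?_⟩
    · exact Nat.ModEq.cancel_left_of_coprime hc.symm (by simpa using e)
    · exact Nat.ModEq.cancel_left_of_coprime hc.symm (by simpa [mul_assoc] using e)
    · exact Nat.ModEq.cancel_left_of_coprime (hc.mul_left hc).symm (by simpa using e)
    · rw [Nat.ModEq, hb.2, Nat.mod_eq_of_lt hp.out.one_lt]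
  have aux : ∀ {m q : ℕ}, q.Prime → p ≠ q → ¬ q + 1 ≡ 1 [MOD p] := fun {_ q} hq hne e => hne
    ((Nat.prime_dvd_prime_iff_eq hp.out hq).1 (by
      simpa using (Nat.modEq_iff_dvd' (by omega)).1 e.symm))
  by_cases h : p = 7 ∨ p = 31
  · refine ⟨3, key 3 ?_ ?_ ?_ ?_⟩ <;> rcases h with rfl | rfl <;> decide
  · push Not at h
    exact ⟨2, key 2 (fun e => by have := Nat.le_of_dvd two_pos e; omega)
      (aux (m := 0) (q := 3) (by norm_num) (by omega)) (aux (m := 0) (q := 7) (by norm_num) h.1)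
      (aux (m := 0) (q := 31) (by norm_num) h.2)⟩

namespace W4
variable [Finite G] {τ : G →* G} {a : ℕ} {K₀ K₁ K₂ K₃ : Subgroup G}

theorem ea (h : W4 p τ a K₀ K₁ K₂ K₃) (ha : GenW p a) (hc : K₀ ≤ center G)
    (h0 : ∀ z ∈ K₀, z ^ p = 1) (hfix : ∀ z ∈ K₀, τ z = z) : IsElementaryAbelian p K₃ := by
  have cc : ∀ {x y : G}, x ∈ K₃ → y ∈ K₃ → ∀ g, Commute g ⁅x, y⁆ := fun hx hy g =>
    mem_center_iff.1 (hc (h.comm _ hx _ hy)) g
  have l1 := h.h12.trans h.h23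
  have l0 := h.h01.trans l1
  have key : ∀ {x y : G} {i j : ℕ}, x ∈ K₃ → y ∈ K₃ → (x ^ i)⁻¹ * τ x ∈ K₃ → (y ^ j)⁻¹ * τ y ∈ K₃ →
      Commute ((x ^ i)⁻¹ * τ x) (τ y) → Commute x ((y ^ j)⁻¹ * τ y) → ¬ i * j ≡ 1 [MOD p] →
      x * y = y * x := fun {x y i j} hx hy h1 h2 h3 h4 hij => by
    have hty : τ y ∈ K₃ := by simpa using K₃.mul_mem (K₃.pow_mem hy j) h2
    refine comm_eq_one_iff.1 (eq_one_of_pow_eq (h0 _ (h.comm _ hx _ hy)) ?_ hij)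
    calc ⁅x, y⁆ = ⁅x ^ i * ((x ^ i)⁻¹ * τ x), τ y⁆ := by
          rw [← hfix _ (h.comm _ hx _ hy), map_commutatorElement, mul_inv_cancel_left]
      _ = ⁅x, y ^ j * ((y ^ j)⁻¹ * τ y)⁆ ^ i := by
          rw [commutator_mul_left_of_commute (cc h1 hty _), comm_eq_one_iff.2 h3, one_mul,
            commutator_pow_left_of_commute (cc hx hty _), mul_inv_cancel_left]
      _ = _ := by
          rw [commutator_mul_right_of_commute (cc hx h2 _), comm_eq_one_iff.2 h4, mul_one,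
            commutator_pow_right_of_commute (cc hx hy _), ← pow_mul, mul_comm]
  have c0 : ∀ z ∈ K₀, ∀ g, z * g = g * z := fun z hz g => (mem_center_iff.1 (hc hz) g).symm
  have c1 : ∀ x ∈ K₁, ∀ y ∈ K₁, x * y = y * x := fun x hx y hy =>
    mul_comm_of_relIndex_dvd_prime h.h01 (fun z hz g _ => c0 z hz g) h.r1.dvd hx hy
  have c2 : ∀ x ∈ K₂, ∀ y ∈ K₂, x * y = y * x := fun x hx y hy =>
    mul_comm_of_relIndex_dvd_prime h.h12 (fun c hc u hu => key (l1 hc) (h.h23 hu) (l0 (h.w1 c hc))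
      (l1 (h.w2 u hu)) (c0 _ (h.w1 c hc) _) (c1 _ hc _ (h.w2 u hu)) (mul_assoc a a a ▸ ha.h3))
      h.r2.dvd hx hy
  have c13 : ∀ c ∈ K₁, ∀ x ∈ K₃, x * c = c * x := fun c hc' x hx => by
    obtain ⟨w, hw, u, hu, h1, h2⟩ := h.act
    have h3 : ⁅x, u⁆ = ⁅x * (x⁻¹ * (w * x * w⁻¹)), u * (u⁻¹ * (w * u * w⁻¹))⁆ := by
      rw [mul_inv_cancel_left, mul_inv_cancel_left, ← conjugate_commutatorElement,
        (cc hx (h.h23 hu) w).eq, mul_inv_cancel_right]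
    have h4 := K₂.mul_mem hu (h.h12 h1)
    rw [commutator_mul_left_of_commute (cc (h.h23 (hw x hx)) (h.h23 h4) _),
      comm_eq_one_iff.2 (c2 _ (hw x hx) _ h4), one_mul,
      commutator_mul_right_of_commute (cc hx (l1 h1) _), left_eq_mul, comm_eq_one_iff] at h3
    have : K₀ ⊔ zpowers (u⁻¹ * (w * u * w⁻¹)) ≤ centralizer {x} :=
      sup_le (fun z hz => mem_centralizer_singleton_iff.2 (c0 z hz x))
        (zpowers_le.2 (mem_centralizer_singleton_iff.2 h3.symm))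
    rw [sup_zpowers_eq_of_relIndex_prime hp.out h.r1 h.h01 h1 h2] at this
    exact (mem_centralizer_singleton_iff.1 (this hc')).symm
  have c3 : ∀ x ∈ K₃, ∀ y ∈ K₃, x * y = y * x := fun x hx y hy =>
    mul_comm_of_relIndex_dvd_prime h.h23 (fun u hu x hx => (key hx (h.h23 hu) (h.h23 (h.w3 x hx))
      (l1 (h.w2 u hu)) (c2 _ (h.w3 x hx) _ (by
        simpa using K₂.mul_mem (K₂.pow_mem hu (a * a)) (h.h12 (h.w2 u hu))))
      (c13 _ (h.w2 u hu) _ hx) ha.h5).symm) h.r3.dvd hx hy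
  have pw : ∀ {v : G} {i : ℕ}, v ∈ K₃ → (v ^ i)⁻¹ * τ v ∈ K₃ → ((v ^ i)⁻¹ * τ v) ^ p = 1 →
      τ (v ^ p) = (v ^ p) ^ i := fun {v i} hv h1 h2 => by
    rw [map_pow, ← mul_inv_cancel_left (v ^ i) (τ v),
      (show Commute (v ^ i) _ from c3 _ (K₃.pow_mem hv i) _ h1).mul_pow, h2, mul_one, ← pow_mul,
      ← pow_mul, mul_comm]
  have e0 : ∀ {v : G} {i : ℕ}, v ∈ K₀ → τ v = v ^ i → ¬ i ≡ 1 [MOD p] → v = 1 :=
    fun {v i} hv h1 hi => eq_one_of_pow_eq (h0 v hv) ((hfix v hv).symm.trans h1) hi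
  have q1 := fun {v} => pow_mem_of_relIndex_prime (h.hG.to_subgroup K₁) h.h01 h.r1 (x := v)
  have q2 := fun {v} => pow_mem_of_relIndex_prime (h.hG.to_subgroup K₂) h.h12 h.r2 (x := v)
  have q3 := fun {v} => pow_mem_of_relIndex_prime (h.hG.to_subgroup K₃) h.h23 h.r3 (x := v)
  have e1 : ∀ {v : G} {i : ℕ}, v ∈ K₁ → τ v = v ^ i → ¬ i ≡ a [MOD p] → v ∈ K₀ :=
    fun {v i} hv h1 hi => mem_of_wt (q1 hv) (by rw [h1]; simp) (h.w1 v hv) hi
  have e2 : ∀ {v : G} {i : ℕ}, v ∈ K₂ → τ v = v ^ i → ¬ i ≡ a * a [MOD p] → v ∈ K₁ :=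
    fun {v i} hv h1 hi => mem_of_wt (q2 hv) (by rw [h1]; simp) (h.w2 v hv) hi
  have p1 : ∀ v ∈ K₁, v ^ p = 1 := fun v hv =>
    e0 (q1 hv) (pw (l1 hv) (l0 (h.w1 v hv)) (h0 _ (h.w1 v hv))) ha.h1
  have p2 : ∀ v ∈ K₂, v ^ p = 1 := fun v hv => by
    have := pw (h.h23 hv) (l1 (h.w2 v hv)) (p1 _ (h.w2 v hv))
    exact e0 (e1 (q2 hv) this ha.h21) this ha.h2
  refine isElementaryAbelian_iff.2 ⟨c3, fun v hv => ?_⟩
  have := pw hv (h.h23 (h.w3 v hv)) (p2 _ (h.w3 v hv))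
  exact e0 (e1 (e2 (q3 hv) this ha.h32) this ha.h31) this ha.h3

theorem phi_le (h : W4 p τ a K₀ K₁ K₂ K₃) (ha : GenW p a) {T : Subgroup G} (hT : T ≤ K₀)
    (hi : T.relIndex K₀ = p) (hc : ∀ z ∈ K₀, ∀ g : G, ⁅z, g⁆ ∈ T) (hτ : ∀ z ∈ T, τ z ∈ T)
    (hfix : ∀ z ∈ K₀, z⁻¹ * τ z ∈ T) : Phi p K₃ ≤ T := by
  have hn : T.Normal := normal_of_comm_mem fun x hx g => commutator_mem_comm (hc x (hT hx) g)
  let π := QuotientGroup.mk' T
  let τ' : G ⧸ T →* G ⧸ T := QuotientGroup.map T T τ hτ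
  have e : ∀ g, τ' (π g) = π (τ g) := fun g => rfl
  have r : ∀ {K L : Subgroup G}, T ≤ K → K ≤ L → (K.map π).relIndex (L.map π) = K.relIndex L :=
    fun hK hL => by
      rw [relIndex_map_map, QuotientGroup.ker_mk', sup_eq_left.2 hK, sup_eq_left.2 (hK.trans hL)]
  have wt : ∀ {K L : Subgroup G} {i : ℕ}, (∀ v ∈ L, (v ^ i)⁻¹ * τ v ∈ K) →
      ∀ v ∈ L.map π, (v ^ i)⁻¹ * τ' v ∈ K.map π := by
    rintro K L i hw _ ⟨v, hv, rfl⟩
    exact ⟨_, hw v hv, by simp [e]⟩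
  have H : W4 p τ' a (K₀.map π) (K₁.map π) (K₂.map π) (K₃.map π) := by
    refine ⟨h.hG.to_quotient T, map_mono h.h01, map_mono h.h12, map_mono h.h23,
      (r hT h.h01).trans h.r1, (r (hT.trans h.h01) h.h12).trans h.r2,
      (r (hT.trans (h.h01.trans h.h12)) h.h23).trans h.r3, ?_, wt h.w1, wt h.w2, wt h.w3, ?_⟩
    · rintro _ ⟨x, hx, rfl⟩ _ ⟨y, hy, rfl⟩
      exact ⟨_, h.comm x hx y hy, map_commutatorElement _ _ _⟩
    · obtain ⟨w, hw, u, hu, h1, h2⟩ := h.act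
      refine ⟨π w, ?_, π u, mem_map_of_mem _ hu, ⟨_, h1, by simp⟩, fun e => h2
        ((mem_map_mk_iff hT).1 (by simpa [π] using e))⟩
      rintro _ ⟨v, hv, rfl⟩
      exact ⟨_, hw v hv, by simp⟩
  have := Phi_eq_bot_iff.2 (H.ea ha (by
    rintro _ ⟨z, hz, rfl⟩
    refine mem_center_iff.2 fun g => ?_
    obtain ⟨g, rfl⟩ := QuotientGroup.mk_surjective g
    exact (comm_eq_one_iff.1 ((QuotientGroup.eq_one_iff _).2 (hc z hz g) :)).symm) (by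
    rintro _ ⟨z, hz, rfl⟩
    exact (QuotientGroup.eq_one_iff _).2
      (pow_mem_of_relIndex_prime (h.hG.to_subgroup K₀) hT hi hz)) (by
    rintro _ ⟨z, hz, rfl⟩
    exact (QuotientGroup.eq.2 (hfix z hz)).symm))
  rwa [← map_Phi, Subgroup.map_eq_bot_iff, QuotientGroup.ker_mk'] at this

end W4

theorem TI.map [Finite G] {E W : Subgroup G} (h : TI p E W) (σ : MulAut G) :
    TI p (E.map (σ : G →* G)) (W.map (σ : G →* G)) := by
  have hea := isElementaryAbelian_iff.1 h.ea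
  refine ⟨h.hG, h.normal.map _ σ.surjective, (index_map_of_bijective σ.bijective E).trans h.index,
    map_mono h.le, h.W_normal.map _ σ.surjective, isElementaryAbelian_iff.2 ⟨?_, ?_⟩,
    (card_map_of_injective σ.injective).trans h.card, ?_, fun g hg K hK hc => ?_, ?_⟩
  · rintro _ ⟨a, ha, rfl⟩ _ ⟨b, hb, rfl⟩; rw [← map_mul, hea.1 a ha b hb, map_mul]
  · rintro _ ⟨a, ha, rfl⟩; rw [← map_pow, hea.2 a ha, map_one]
  · rintro _ ⟨a, ha, rfl⟩ _ ⟨b, hb, rfl⟩; rw [← map_mul, h.cent a ha b hb, map_mul]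
  · obtain ⟨g, rfl⟩ := σ.surjective g
    rw [← map_comap_eq_self_of_surjective (f := (σ : G →* G)) σ.surjective K,
      card_map_of_injective σ.injective]
    exact h.reg g (fun e => hg (mem_map_of_mem _ e)) _
      (fun x hx => (mem_map_iff_mem σ.injective).1 (hK hx))
      fun x hx => σ.injective (by simpa using hc _ hx)
  · rcases h.irr with e | e
    · exact Or.inl (map_Phi (p := p) (σ : G →* G) E ▸ map_mono e)
    · exact Or.inr (by rw [e])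

section Plane
variable {V : Type*} [CommGroup V] {s d : MulAut V} {w u : V}

theorem plane_conj (hV : IsEA2 p V) (hu : u ≠ 1) (hw : w ∉ zpowers u) (h1 : s w = w * u)
    (h2 : s u = u) (h3 : d u ∉ zpowers u) : ∃ l : ℕ, s (d⁻¹ ((s ^ l) w)) = d⁻¹ ((s ^ l) w) := by
  obtain ⟨j, i, e⟩ := hV.exists_eq hu hw (d u)
  obtain ⟨i', hi⟩ := exists_mul_modEq_one (p := p) (a := i) (by
    rintro ⟨k, rfl⟩
    rw [zpow_mul, zpow_natCast, hV.pow, one_zpow, mul_one] at e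
    exact h3 ⟨j, e.symm⟩)
  refine ⟨((j * i' : ℤ) : ZMod p).val, ?_⟩
  have := (IsEA2.pow_apply_of_transvection (a := 1) h2 (by rw [h1, zpow_one])
    ((j * i' : ℤ) : ZMod p).val).2
  rw [one_mul, zpow_natCast, pow_val_intCast (hV.pow u)] at this
  have e2 : (s ^ ((j * i' : ℤ) : ZMod p).val) w = d (u ^ i') := by
    rw [this, map_pow, e, mul_pow, ← zpow_natCast, ← zpow_natCast, ← zpow_mul, ← zpow_mul,
      zpow_eq_zpow_of_modEq (hV.pow w) hi, zpow_one, mul_comm]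
  rw [e2, MulAut.inv_apply, MulEquiv.symm_apply_apply, map_pow, h2]

theorem plane_wt (hV : IsEA2 p V) (hu : u ≠ 1) (hw : w ∉ zpowers u) (h1 : s w = w * u)
    (h2 : s u = u) (h3 : d u ∈ zpowers u) {a b : ℕ} (hab : a * b ≡ 1 [MOD p]) (h4 : d w = w ^ b)
    (h5 : (u ^ (a * a))⁻¹ * d u ∈ zpowers w) :
    d u = u ^ (a * a) ∧ d * s = s ^ (a * a * a) * d := by
  have e : d u = u ^ (a * a) := by
    by_contra hne
    exact hw (le_of_card_prime hp.out (card_zpowers_of_pow_prime (hV.pow w) fun e => hw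
      (e ▸ one_mem _)) h5 (fun e => hne (inv_mul_eq_one.1 e).symm)
      (mul_mem (inv_mem (pow_mem (mem_zpowers u) _)) h3) (mem_zpowers w))
  obtain ⟨k1, k2⟩ := IsEA2.pow_apply_of_transvection (a := 1) h2 (by rw [h1, zpow_one]) (a * a * a)
  rw [one_mul, zpow_natCast] at k2
  refine ⟨e, hV.aut_ext hu hw ?_ ?_⟩
  · rw [MulAut.mul_apply, MulAut.mul_apply, h2, e, map_pow, k1]
  · rw [MulAut.mul_apply, MulAut.mul_apply, h1, map_mul, h4, e, map_pow, k2, mul_pow, ← pow_mul,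
      mul_assoc (a * a), pow_eq_pow_of_modEq (hab.mul_left (a * a)) (hV.pow u), mul_one]

end Plane

end Cfsg.Agent.H9
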