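import Cfsg.Agent.Lib.H9.G3N

/-! A non-normal essential subgroup in its normalizer. -/

set_option autoImplicit false
set_option linter.unusedSectionVars false
set_option linter.style.haveILetI false
set_option linter.unusedSimpArgs false

open Subgroup
open scoped commutatorElement

namespace Cfsg.Agent.H9
open Cfsg.Agent.H1 Cfsg.Agent.H7 FusionSystem

variable {G : Type*} [Group G] {p : ℕ} [hp : Fact p.Prime]

theorem pElt_of_two_step [Finite G] (hG : IsPGroup p G) {β : MulAut G} {K : Subgroup G}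
    (hK : ∀ x ∈ K, β x ∈ K) (h1 : TrivOn β ⊤ K) (h2 : TrivOn β K (Phi p ⊤)) :
    ∃ k, β ^ p ^ k = 1 := by
  have i1 : AInv (zpowers β) K := AInv.zpowers hK
  have i2 : AInv (zpowers β) (Phi p ⊤) := AInv.of_characteristic _ _
  have := isPGroup_of_chain hG (N := zpowers β)
    (fun i => if i = 0 then Phi p ⊤ else if i = 1 then K else ⊤) 2 2 (by norm_num)
    (fun i hi => by interval_cases i <;> simp [i1, i2]) (by simp) (by simp) fun α hα i hi => by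
      interval_cases i
      · exact (zpowers_le.2 (mem_stab.2 ⟨mem_zpowers β, h2⟩ : β ∈ stab _ _ _ i2) hα).2
      · exact (zpowers_le.2 (mem_stab.2 ⟨mem_zpowers β, h1⟩ : β ∈ stab _ _ _ i1) hα).2
  exact exists_pow_eq_one this (mem_zpowers β)

theorem pElt_conj {H : Type*} [Group H] {a : H} (h : ∃ k, a ^ p ^ k = 1) (b : H) :
    ∃ k, (b * a * b⁻¹) ^ p ^ k = 1 := h.imp fun k hk => by rw [conj_pow, hk]; simp

theorem inv_map_mem [Finite G] {β : MulAut G} {K : Subgroup G} (hK : ∀ x ∈ K, β x ∈ K) :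
    ∀ x ∈ K, β⁻¹ x ∈ K := AInv.zpowers hK _ (inv_mem (mem_zpowers β))

/-- An essential subgroup `E` and its conjugate under `σ`. -/
structure NR (p : ℕ) (B : Subgroup (MulAut G)) (E E₂ : Subgroup G) (n m n₂ m₂ : G → G)
    (t t₂ σ : MulAut G) (T : Subgroup G) (c : G) : Prop where
  slt : SLT p B E n m t
  am : Amal p E E₂ n m n₂ m₂ t t₂
  rc : RCore p E E₂ n n₂ t t₂ T c
  σ_mem : σ ∈ B
  σ_p : ∃ k, σ ^ p ^ k = 1
  E₂_eq : E₂ = E.map (σ : G →* G)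
  t₂σ : ∀ g, t₂ (σ g) = σ (t g)
  H2 : ∀ β ∈ B, (∃ k, β ^ p ^ k = 1) → (∀ x ∈ E, β x ∈ E) → β ∈ Inn G

theorem exists_nr [Finite G] {B : Subgroup (MulAut G)} {E : Subgroup G} {n m : G → G}
    {t σ : MulAut G} (h : SLT p B E n m t) (hr : SR p 3 G) (hσ : σ ∈ B) (hσ' : ∃ k, σ ^ p ^ k = 1)
    (hne : E ≠ E.map (σ : G →* G))
    (H2 : ∀ β ∈ B, (∃ k, β ^ p ^ k = 1) → (∀ x ∈ E, β x ∈ E) → β ∈ Inn G) :
    ∃ E₂ n₂ m₂ t₂ T c, NR p B E E₂ n m n₂ m₂ t t₂ σ T c := by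
  obtain ⟨n₂, m₂, t₂, h₂, -, -, e⟩ := h.sld.map (π := (σ : G →* G)) σ.surjective (by
    rw [(MonoidHom.ker_eq_bot_iff _).2 σ.injective]; exact h.sld.inv_bot)
  have am : Amal p E _ n m n₂ m₂ t t₂ := ⟨h.sld, h₂, hne, hr⟩
  obtain ⟨x, hx, hx'⟩ := h.ne
  obtain ⟨T, c, rc⟩ := am.main h.ne ⟨σ x, mem_map_of_mem _ hx, fun e' =>
    hx' (σ.injective ((e x).symm.trans e'))⟩
  exact ⟨_, n₂, m₂, t₂, T, c, h, am, rc, hσ, hσ', rfl, e, H2⟩

namespace NR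
variable [Finite G] {B : Subgroup (MulAut G)} {E E₂ : Subgroup G} {n m n₂ m₂ : G → G}
  {t t₂ σ τ β : MulAut G} {T : Subgroup G} {c w : G} {a b : ℕ}

local notation "NR'" => NR p B E E₂ n m n₂ m₂ t t₂ σ T c

theorem hG (h : NR') : IsPGroup p G := h.am.h₁.hG

theorem odd (h : NR') : Odd p := h.am.h₁.odd

theorem normal (h : NR') : T.Normal := h.rc.i₁.normal

theorem σ_ne (h : NR') : ¬ ∀ x ∈ E, σ x ∈ E := fun e => h.am.symm.not_le (by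
  rw [h.E₂_eq]; rintro _ ⟨x, hx, rfl⟩; exact e x hx)

theorem not_inn (h : NR') : σ ∉ Inn G := by
  rintro ⟨g, rfl⟩
  exact h.σ_ne fun x hx => h.am.h₁.normal.conj_mem x hx g

theorem T_le (h : NR') : T ≤ E ⊓ E₂ := le_inf h.rc.i₁.le h.rc.i₂.le

theorem C_le (h : NR') : T ⊔ zpowers c ≤ E ⊓ E₂ := sup_le h.T_le (zpowers_le.2 h.rc.c_mem)

theorem mem_inf_iff (h : NR') {f : G} : f ∈ E ⊓ E₂ ↔ ∀ g : G, ⁅f, g⁆ ∈ T := by
  refine ⟨h.rc.cent f, fun hf => ⟨?_, ?_⟩⟩ <;> by_contra hne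
  · exact h.rc.c_not (h.am.h₁.mem_of_triv_of_inverted (h.am.h₁.t_triv_of_cent h.rc.i₁
      h.am.h₁.inv_top hne (fun x _ => commutator_mem_comm (hf x)) c h.rc.c_mem.1)
      (by rw [h.rc.t₁c]; simp))
  · exact h.rc.c_not (h.am.h₂.mem_of_triv_of_inverted (h.am.h₂.t_triv_of_cent h.rc.i₂
      h.am.h₂.inv_top hne (fun x _ => commutator_mem_comm (hf x)) c h.rc.c_mem.2) h.rc.t₂c)

theorem map_inf (h : NR') (hβ : ∀ x ∈ T, β x ∈ T) : ∀ f ∈ E ⊓ E₂, β f ∈ E ⊓ E₂ := fun f hf =>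
  h.mem_inf_iff.2 fun g => by
    obtain ⟨g, rfl⟩ := β.surjective g
    rw [← map_commutatorElement]
    exact hβ _ (h.rc.cent f hf g)

theorem relIndex_C (h : NR') : T.relIndex (T ⊔ zpowers c) = p :=
  relIndex_sup_zpowers (le_normalizer_of_normal' h.normal c) h.rc.c_not
    (h.rc.phi₁ (pow_mem_Phi h.rc.c_mem.1))

theorem map_C (h : NR') (hβ : ∀ x ∈ T, β x ∈ T) : ∀ v ∈ T ⊔ zpowers c, β v ∈ T ⊔ zpowers c := by
  obtain ⟨x, -, hx⟩ := h.am.exists₁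
  obtain ⟨y, hy⟩ := not_forall.1 fun e => hx (h.mem_inf_iff.2 e).2
  intro v hv
  rw [← sup_zpowers_eq_of_relIndex_prime hp.out h.relIndex_C le_sup_left (h.rc.comm x y) hy] at hv
  refine (sup_le (fun s hs => ?_) (zpowers_le.2 ?_) : _ ≤ (T ⊔ zpowers c).comap (β : G →* G)) hv
  · exact mem_sup_left (hβ s hs)
  · rw [mem_comap, map_commutatorElement]; exact h.rc.comm _ _

theorem Phi_le (h : NR') : Phi p ⊤ ≤ E ⊓ E₂ := Phi_le_iff.2
  ⟨fun x _ => ⟨pow_mem_of_index h.hG h.am.h₁.index x, pow_mem_of_index h.hG h.am.h₂.index x⟩,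
    fun x _ y _ => h.C_le (h.rc.comm x y)⟩

theorem relIndex_Phi (h : NR') : (Phi p ⊤).relIndex (E ⊓ E₂) ∣ p := by
  obtain ⟨j, hj⟩ := exists_relIndex_eq_pow (H := Phi p ⊤) (h.hG.to_subgroup (E ⊓ E₂))
  have h1 := h.am.hr (⊤ : Subgroup G) _ le_top le_rfl
  rw [relIndex_top_right, ← relIndex_mul_index h.Phi_le, hj, h.am.index_inf, ← pow_add,
    Nat.pow_le_pow_iff_right hp.out.one_lt] at h1
  rw [hj]
  exact (pow_dvd_pow p (by omega : j ≤ 1)).trans (pow_one p).dvd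

theorem y_not (h : NR') {y : G} (h1 : t y = y) (h2 : y⁻¹ * t₂ y ∉ T) : y ∉ T ⊔ zpowers c :=
  fun hy => h2 (by
    have := h.normal
    have h3 := inverted_mod_sup (t := t) (fun x hx => by rw [h.rc.fix₁ x hx]; exact hx)
      (by rw [h.rc.t₁c]; simp) hy
    rw [h1] at h3
    rw [h.rc.fix₂ y (mem_of_mul_self_mem h.odd h.hG h3), inv_mul_cancel]
    exact one_mem _)

theorem σT (h : NR') : ∀ x ∈ T, σ x ∈ T := fun x hx => by
  have := h.normal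
  rcases h.rc.cases with hc | ⟨y, hy, h1, h2, h3, -⟩
  · obtain ⟨w, hw, hw', hw''⟩ := h.rc.w₂
    have h1 : σ x ∈ E₂ := h.E₂_eq ▸ mem_map_of_mem _ (h.rc.i₁.le hx)
    have h2 : t₂ (σ x) = σ x := by rw [h.t₂σ, h.rc.fix₁ x hx]
    obtain ⟨f, hf, i, e⟩ := h.am.symm.exists_eq₁ hw hw' h1
    rw [inf_comm] at hf
    have h3 := inverted_mod_sup (t := t₂) (fun x hx => by rw [h.rc.fix₂ x hx]; exact hx)
      h.rc.t₂c (hc hf)
    have h4 := h.rc.cent _ (h.map_inf (β := t₂) (fun x hx => by rw [h.rc.fix₂ x hx]; exact hx) f hf)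
      (w ^ i)
    refine mem_of_mul_self_mem h.odd h.hG ?_
    nth_rewrite 2 [← h2]
    rw [e, map_mul, map_zpow, hw'']
    have := T.mul_mem (this.conj_mem _ (commutator_mem_comm h4) f) h3
    convert this using 1
    rw [comm_eq]; group
  · have n1 : (T ⊔ zpowers c).Normal := normal_of_comm_mem fun x _ g => h.rc.comm g x
    have r2 : (T ⊔ zpowers c).relIndex (E ⊓ E₂) = p := by
      rw [le_antisymm h3 (sup_le h.C_le (zpowers_le.2 hy))]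
      exact relIndex_sup_zpowers (le_normalizer_of_normal' n1 y) (h.y_not h1 h2)
        (mem_sup_left (h.rc.phi₁ (pow_mem_Phi hy.1)))
    have h4 := h.am.hr E _ (H9.Phi_le E) le_rfl
    rw [← relIndex_mul_relIndex _ _ _ h.rc.phi₁ h.rc.i₁.le,
      ← relIndex_mul_relIndex T _ _ le_sup_left (h.C_le.trans inf_le_left),
      ← relIndex_mul_relIndex _ _ _ h.C_le inf_le_left, h.relIndex_C, r2, h.am.relIndex₁] at h4
    have h5 : (Phi p E).relIndex T = 1 := le_antisymm (Nat.le_of_mul_le_mul_right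
      (by simpa [pow_succ, mul_assoc] using h4) (pow_pos hp.out.pos 3)) relIndex_pos
    refine h.rc.phi₂ ?_
    rw [h.E₂_eq, ← map_Phi]
    exact mem_map_of_mem _ (relIndex_eq_one.1 h5 hx)

theorem σC (h : NR') : TrivOn σ (T ⊔ zpowers c) T := by
  obtain ⟨k, hk⟩ := h.σ_p
  exact trivOn_of_relIndex_prime hk (h.hG.to_subgroup _) le_sup_left h.relIndex_C (h.map_C h.σT) h.σT

theorem τ_inner (h : NR') (hτ : Tor p E n m t τ a b) : ∃ e, ∀ x ∈ T, τ x = e * x * e⁻¹ := by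
  obtain ⟨w, -, hw', hw''⟩ := h.rc.w₂
  have hc := mem_centralizer_iff.1 (cent_of_inverted h.odd h.hG h.normal h.rc.fix₂ hw'')
  obtain ⟨e, -, he⟩ := h.am.h₁.trip_inner hτ.trip h.rc.i₁ hw' hc
  obtain ⟨e', -, he'⟩ := h.am.h₁.trip_inner h.am.h₁.braid h.rc.i₁ hw' hc
  refine ⟨e * e'⁻¹, fun x hx => ?_⟩
  have h1 := h.am.h₁.m_map h.rc.i₁ hx
  have h2 := he _ h1
  have h3 := he' _ h1
  simp only [h.am.h₁.nm x (h.rc.i₁.le hx)] at h2 h3
  rw [h2]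
  nth_rewrite 2 [h3]
  group

theorem τT (h : NR') (hτ : Tor p E n m t τ a b) : ∀ x ∈ T, τ x ∈ T := fun x hx => by
  obtain ⟨e, he⟩ := h.τ_inner hτ
  rw [he x hx]
  exact h.normal.conj_mem x hx e

theorem τC (h : NR') (hτ : Tor p E n m t τ a b) : ∀ v ∈ T ⊔ zpowers c, (v ^ a)⁻¹ * τ v ∈ T := by
  have := h.normal
  exact fun v hv => wt_sup (τ := (τ : G →* G)) (h.τT hτ) (h.rc.phi₁ (hτ.wa c h.rc.c_mem.1 h.rc.t₁c
    fun g => h.rc.fix₁ _ (commutator_mem_comm (h.rc.cent c h.rc.c_mem g)))) hv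

theorem τw (h : NR') (hτ : Tor p E n m t τ a b) (hw : w ∈ E) (ht : t w = w⁻¹) :
    (w ^ b)⁻¹ * τ w ∈ E ⊓ E₂ :=
  sup_le (h.rc.phi₁.trans h.T_le) (commutator_le.2 fun x _ y _ => h.C_le (h.rc.comm x y))
    (hτ.wb w hw ht)

theorem map_E (h : NR') (hw : w ∈ E) (hw' : w ∉ E₂) (h1 : ∀ x ∈ E ⊓ E₂, β x ∈ E ⊓ E₂)
    (h2 : β w ∈ E) : ∀ x ∈ E, β x ∈ E := fun x hx => by
  obtain ⟨f, hf, i, rfl⟩ := h.am.exists_eq₁ hw hw' hx
  rw [map_mul, map_zpow]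
  exact mul_mem (h1 f hf).1 (zpow_mem h2 i)

theorem plane (h : NR') (hw : w ∈ E) (hw' : w ∉ E₂) (ht : t w = w⁻¹) :
    w⁻¹ * σ w ∉ E ∧ w ∉ E ⊓ E₂ ⊔ zpowers (w⁻¹ * σ w) ∧
      TrivOn σ ⊤ (E ⊓ E₂ ⊔ zpowers (w⁻¹ * σ w)) ∧ (w⁻¹ * σ w)⁻¹ * σ (w⁻¹ * σ w) ∈ E ⊓ E₂ ∧
      ∀ (τ : MulAut G) (a b : ℕ), τ ∈ B → a * b ≡ 1 [MOD p] → Tor p E n m t τ a b →
        ((w⁻¹ * σ w) ^ (a * a))⁻¹ * τ (w⁻¹ * σ w) ∈ E ⊓ E₂ ∧
          ∃ g, τ * σ * τ⁻¹ = MulAut.conj g * σ ^ (a * a * a) := by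
  have := h.am.normal_inf
  letI : CommGroup (G ⧸ E ⊓ E₂) := { (inferInstance : Group (G ⧸ E ⊓ E₂)) with
    mul_comm := fun a b => by
      obtain ⟨a, rfl⟩ := QuotientGroup.mk_surjective a
      obtain ⟨b, rfl⟩ := QuotientGroup.mk_surjective b
      refine QuotientGroup.eq.2 ?_
      simpa [comm_eq, mul_assoc] using h.C_le (h.rc.comm b⁻¹ a⁻¹) }
  have hV : IsEA2 p (G ⧸ E ⊓ E₂) := ⟨fun a b => mul_comm a b, fun a => by
    obtain ⟨a, rfl⟩ := QuotientGroup.mk_surjective a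
    exact (QuotientGroup.eq_one_iff _).2 (h.Phi_le (pow_mem_Phi trivial)), h.am.index_inf⟩
  let ρ := quotHom (autStab (E ⊓ E₂)).subtype (E ⊓ E₂) fun a x hx => (a.2 x).2 hx
  have eρ : ∀ (α : autStab (E ⊓ E₂)) (x : G), ρ α (x : G ⧸ E ⊓ E₂) = (α.1 x : G) := fun _ _ => rfl
  have mk : ∀ {β : MulAut G}, (∀ x ∈ T, β x ∈ T) → β ∈ autStab (E ⊓ E₂) := fun hβ x =>
    (AInv.zpowers (h.map_inf hβ)).mem_iff (mem_zpowers _)
  let s : autStab (E ⊓ E₂) := ⟨σ, mk h.σT⟩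
  set u := w⁻¹ * σ w with hu
  have huE : u ∉ E := fun e => h.σ_ne (h.map_E hw hw' (h.map_inf h.σT)
    (by simpa [hu] using mul_mem hw e))
  have hu1 : (u : G ⧸ E ⊓ E₂) ≠ 1 := fun e => huE ((QuotientGroup.eq_one_iff _).1 e).1
  have h1 : ρ s (w : G ⧸ E ⊓ E₂) = w * u := by rw [eρ, ← QuotientGroup.mk_mul]; simp [s, hu]
  obtain ⟨k, hk⟩ := h.σ_p
  obtain ⟨x, hx1, hx2, hx3, -⟩ := hV.exists_fixed_line (t := ρ s) (k := k)
    (fun e => hu1 (by rw [e, MulAut.one_apply] at h1; exact left_eq_mul.1 h1))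
    (by rw [← map_pow, show s ^ p ^ k = 1 from Subtype.ext hk, map_one])
  have hux : (u : G ⧸ E ⊓ E₂) ∈ zpowers x := by simpa [h1] using hx3 w
  have h2 : ρ s (u : G ⧸ E ⊓ E₂) = u := (zpowers_le.2 hx2 : zpowers x ≤ fixSub (ρ s)) hux
  have hwu : (w : G ⧸ E ⊓ E₂) ∉ zpowers (u : G ⧸ E ⊓ E₂) := fun e => hu1 (by
    have : ρ s (w : G ⧸ E ⊓ E₂) = w := (zpowers_le.2 h2 : _ ≤ fixSub (ρ s)) e
    rwa [h1, mul_eq_left] at this)
  refine ⟨huE, fun e => hwu (mem_zpowers_mk_iff.2 e), fun g _ => mem_zpowers_mk_iff.1 ?_,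
    QuotientGroup.eq.1 h2.symm, fun τ a b hτB hab hτ => ?_⟩
  · rw [zpowers_eq_of_card_prime hp.out (card_zpowers_of_pow_prime (hV.pow x) hx1) hux hu1]
    exact hx3 g
  let d : autStab (E ⊓ E₂) := ⟨τ, mk (h.τT hτ)⟩
  have h3 : ρ d (u : G ⧸ E ⊓ E₂) ∈ zpowers (u : G ⧸ E ⊓ E₂) := by
    by_contra h3
    obtain ⟨l, hl⟩ := plane_conj hV hu1 hwu h1 h2 h3
    set β := (d⁻¹ * s ^ l)⁻¹ * s * (d⁻¹ * s ^ l)⁻¹⁻¹ with hβ
    have h4 : ρ β (w : G ⧸ E ⊓ E₂) = w := by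
      simp only [hβ, inv_inv, map_mul, map_inv, map_pow, MulAut.mul_apply, hl]
      rw [← MulAut.mul_apply, ← MulAut.mul_apply, mul_assoc, inv_mul_cancel, MulAut.one_apply]
    have h5 := h.H2 β.1 (by
      simp only [hβ, coe_mul, coe_inv, coe_pow, d, s]
      exact mul_mem (mul_mem (inv_mem (mul_mem (inv_mem hτB) (pow_mem h.σ_mem l))) h.σ_mem)
        (inv_mem (inv_mem (mul_mem (inv_mem hτB) (pow_mem h.σ_mem l)))))
      (pElt_conj h.σ_p _) (h.map_E hw hw' (fun x hx => (β.2 x).2 hx) (by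
        simpa using mul_mem hw (QuotientGroup.eq.1 h4.symm).1))
    refine h.not_inn ?_
    have := (normalIn_inn (A := ⊤) le_top).2 (d⁻¹ * s ^ l).1 trivial _ h5
    simpa [hβ, s, mul_assoc] using this
  obtain ⟨k1, k2⟩ := plane_wt hV hu1 hwu h1 h2 h3 hab (QuotientGroup.eq.2 (h.τw hτ hw ht)).symm
    (mem_zpowers_mk_iff.2 (by
      rw [sup_zpowers_eq_of_relIndex_prime hp.out h.am.relIndex₁ inf_le_left hw fun e => hw' e.2]
      exact hτ.top u))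
  refine ⟨QuotientGroup.eq.1 k1.symm, ?_⟩
  set β := d * s * d⁻¹ * (s ^ (a * a * a))⁻¹ with hβ
  have h4 : ρ β = 1 := by simp only [hβ, map_mul, map_inv, map_pow, k2]; group
  have t1 : TrivOn β.1 ⊤ (E ⊓ E₂) := fun g _ => QuotientGroup.eq.1 (by rw [← eρ, h4]; rfl)
  have tr : ∀ γ : autStab (E ⊓ E₂), (∃ k, γ.1 ^ p ^ k = 1) → TrivOn γ.1 (E ⊓ E₂) (Phi p ⊤) :=
    fun γ ⟨k, hk⟩ => trivOn_of_relIndex_dvd_prime hk (h.hG.to_subgroup _) h.Phi_le h.relIndex_Phi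
      (fun x hx => (γ.2 x).2 hx) (AInv.of_characteristic ⊤ _ _ trivial)
  have t2 : TrivOn β.1 (E ⊓ E₂) (Phi p ⊤) := (tr (d * s * d⁻¹) (pElt_conj h.σ_p _)).mul
    (tr (s ^ (a * a * a))⁻¹ ⟨k, by
      simp only [coe_inv, coe_pow, s]
      rw [inv_pow, ← pow_mul, mul_comm, pow_mul, hk]; simp⟩) (AInv.of_characteristic ⊤ _ _ trivial)
  obtain ⟨g, hg⟩ := h.H2 β.1 (by
      simp only [hβ, coe_mul, coe_inv, coe_pow, d, s]
      exact mul_mem (mul_mem (mul_mem hτB h.σ_mem) (inv_mem hτB)) (inv_mem (pow_mem h.σ_mem _)))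
    (pElt_of_two_step h.hG (fun x hx => (β.2 x).2 hx) t1 t2)
    fun x hx => by simpa using mul_mem hx (t1 x trivial).1
  exact ⟨g, by rw [hg]; simp [hβ, d, s]⟩

theorem alpha (h : NR') (h5 : 5 ≤ p) : E ⊓ E₂ ≤ T ⊔ zpowers c := by
  refine h.rc.cases.resolve_right ?_
  rintro ⟨y, hy, h1, h2, h3, -⟩
  have := h.normal
  obtain ⟨a, ha⟩ := exists_genW h5
  obtain ⟨b, hab⟩ := ha.inv
  obtain ⟨τ, hτB, hτ⟩ := h.slt.tor a b hab
  obtain ⟨w, hw, hw', ht⟩ := h.rc.w₁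
  obtain ⟨-, g, hg⟩ := (h.plane hw hw' ht).2.2.2.2 τ a b hτB hab hτ
  obtain ⟨k, hk⟩ := h.σ_p
  have n1 : (T ⊔ zpowers c).Normal := normal_of_comm_mem fun x _ g => h.rc.comm g x
  have hd : y⁻¹ * σ y ∈ T ⊔ zpowers c := trivOn_of_relIndex_prime hk (h.hG.to_subgroup _) h.C_le (by
      rw [le_antisymm h3 (sup_le h.C_le (zpowers_le.2 hy))]
      exact relIndex_sup_zpowers (le_normalizer_of_normal' n1 y) (h.y_not h1 h2)
        (mem_sup_left (h.rc.phi₁ (pow_mem_Phi hy.1)))) (h.map_inf h.σT) (h.map_C h.σT) y hy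
  let ρ := quotHom (autStab T).subtype T fun a x hx => (a.2 x).2 hx
  have eρ : ∀ (α : autStab T) (x : G), ρ α (x : G ⧸ T) = (α.1 x : G) := fun _ _ => rfl
  have mk : ∀ {β : MulAut G}, (∀ x ∈ T, β x ∈ T) → β ∈ autStab T := fun hβ x =>
    (AInv.zpowers hβ).mem_iff (mem_zpowers _)
  let s : autStab T := ⟨σ, mk h.σT⟩
  let d : autStab T := ⟨τ, mk (h.τT hτ)⟩
  set v := y⁻¹ * σ y with hv
  have e1 : ρ s (v : G ⧸ T) = v := (QuotientGroup.eq.2 (h.σC v hd)).symm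
  have e2 : ρ s (y : G ⧸ T) = y * v ^ (1 : ℤ) := by
    rw [eρ, zpow_one, ← QuotientGroup.mk_mul]; simp [s, hv]
  have e3 : ρ d (y : G ⧸ T) = y := (QuotientGroup.eq.2 (h.rc.phi₁ (hτ.w1 y hy.1 h1))).symm
  have e4 : ρ d (v : G ⧸ T) = v ^ a := (QuotientGroup.eq.2 (h.τC hτ v hd)).symm
  have e5 := (IsEA2.pow_apply_of_transvection e1 e2 (a * a * a)).2
  have e6 : d * s = ⟨MulAut.conj g, inn_le_autStab T ⟨g, rfl⟩⟩ * s ^ (a * a * a) * d :=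
    Subtype.ext (by simp [d, s, ← hg])
  have e7 := congrArg (fun γ => ρ γ (y : G ⧸ T)) e6
  simp only [map_mul, map_pow, MulAut.mul_apply, e2, e3, e4, e5, zpow_one, one_mul,
    zpow_natCast] at e7
  have cz : ∀ f ∈ E ⊓ E₂, ρ ⟨MulAut.conj g, inn_le_autStab T ⟨g, rfl⟩⟩ (f : G ⧸ T) = f :=
    fun f hf => (QuotientGroup.eq.2 (by
      simpa [comm_eq, mul_assoc] using h.rc.cent _ (inv_mem hf) g)).symm
  rw [cz y hy, cz v (h.C_le hd), mul_right_inj] at e7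
  have hvT : v ∈ T := mem_of_wt (h.rc.phi₁ (pow_mem_Phi (h.C_le hd).1)) (w := v ^ a) (i := a)
    (by simp) (QuotientGroup.eq.1 e7.symm) fun e => ha.h31 e.symm
  have k1 := h.am.h₂.t_map h.rc.i₂ hvT
  have k2 : t₂ (σ y) = σ y := by rw [h.t₂σ, h1]
  rw [hv, map_mul, map_inv, k2] at k1
  exact h2 (by simpa [hv, mul_assoc] using T.mul_mem hvT (T.inv_mem k1))

end NR

end Cfsg.Agent.H9
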