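import Cfsg.Agent.Lib.H9.G3O

/-! A non-normal essential subgroup in sectional rank three is a pearl. -/

set_option autoImplicit false
set_option linter.unusedSectionVars false
set_option linter.style.haveILetI false
set_option linter.unusedSimpArgs false

open Subgroup
open scoped commutatorElement

namespace Cfsg.Agent.H9
open Cfsg.Agent.H1 Cfsg.Agent.H7 FusionSystem

variable {G : Type*} [Group G] {p : ℕ} [hp : Fact p.Prime]

theorem comm_mem_iff_mem_comap {K : Subgroup G} [K.Normal] {a b : G} :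
    ⁅a, b⁆ ∈ K ↔ a ∈ (centralizer {QuotientGroup.mk' K b}).comap (QuotientGroup.mk' K) := by
  rw [mem_comap, mem_centralizer_singleton_iff, ← comm_eq_one_iff, ← map_commutatorElement]
  exact (QuotientGroup.eq_one_iff _).symm

theorem comm_mem_of_sup {K A : Subgroup G} [K.Normal] {x b : G} (hA : ∀ a ∈ A, ⁅a, b⁆ ∈ K)
    (hx : ⁅x, b⁆ ∈ K) {a : G} (ha : a ∈ A ⊔ zpowers x) : ⁅a, b⁆ ∈ K :=
  comm_mem_iff_mem_comap.2 (sup_le (fun a ha => comm_mem_iff_mem_comap.1 (hA a ha))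
    (zpowers_le.2 (comm_mem_iff_mem_comap.1 hx)) ha)

theorem normal_map_of_ext {M : Type*} [Group M] [Finite G] {ι : G →* M} {x : M} {σ : MulAut G}
    (hx : ∀ g, ι (σ g) = x * ι g * x⁻¹) (htop : ι.range ⊔ zpowers x = ⊤) {K : Subgroup G}
    (hK : K.Normal) (hσ : ∀ k ∈ K, σ k ∈ K) : (K.map ι).Normal := by
  have : Finite (K.map ι) := Finite.of_surjective _ (ι.subgroupMap_surjective K)
  rw [← normalizer_eq_top_iff, eq_top_iff, ← htop]
  refine sup_le ?_ (zpowers_le.2 (mem_normalizer_of_conj_mem ?_))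
  · rintro _ ⟨g, rfl⟩
    refine mem_normalizer_of_conj_mem ?_
    rintro _ ⟨k, hk, rfl⟩
    exact ⟨_, hK.conj_mem k hk g, by simp⟩
  · rintro _ ⟨k, hk, rfl⟩
    exact ⟨_, hσ k hk, hx k⟩

namespace NR
variable [Finite G] {B : Subgroup (MulAut G)} {E E₂ : Subgroup G} {n m n₂ m₂ : G → G}
  {t t₂ σ τ β : MulAut G} {T : Subgroup G} {c w : G} {a b : ℕ}

local notation "NR'" => NR p B E E₂ n m n₂ m₂ t t₂ σ T c

theorem exists_w4 (h : NR') (h5 : 5 ≤ p) {M : Type*} [Group M] [Finite M] (hM : IsPGroup p M)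
    {ι : G →* M} (hι : Function.Injective ι) {x : M} (hx : ∀ g, ι (σ g) = x * ι g * x⁻¹)
    (hi : ι.range.index = p) (hxn : x ∉ ι.range)
    (ext : ∀ τ ∈ B, ∀ (g : G) (μ : ℕ), τ * σ * τ⁻¹ = MulAut.conj g * σ ^ μ →
      ∃ τ' : M →* M, (∀ g, τ' (ι g) = ι (τ g)) ∧ (x ^ μ)⁻¹ * τ' x ∈ ι.range) :
    ∃ (τ' : M →* M) (a : ℕ) (K₂ K₃ : Subgroup M) (e : M), GenW p a ∧
      W4 p τ' a (T.map ι) ((E ⊓ E₂).map ι) K₂ K₃ ∧ (∀ z ∈ T.map ι, τ' z = e * z * e⁻¹) ∧
      (T.map ι).Normal ∧ ¬ K₃ ≤ ι.range := by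
  have hC := le_antisymm (h.alpha h5) h.C_le
  have := h.normal
  have := h.am.normal_inf
  obtain ⟨a, ha⟩ := exists_genW h5
  obtain ⟨b, hab⟩ := ha.inv
  obtain ⟨τ, hτB, hτ⟩ := h.slt.tor a b hab
  obtain ⟨w, hw, hw', ht⟩ := h.rc.w₁
  obtain ⟨huE, hwL, hσL, hσu, hpl⟩ := h.plane hw hw' ht
  obtain ⟨hτu, g, hg⟩ := hpl τ a b hτB hab hτ
  obtain ⟨τ', e1, e2⟩ := ext τ hτB g _ hg
  obtain ⟨e, he⟩ := h.τ_inner hτ
  set u := w⁻¹ * σ w with hu
  set L := E ⊓ E₂ ⊔ zpowers u with hL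
  have htop := sup_zpowers_eq_top hi hxn
  have huL : u ∈ L := mem_sup_right (mem_zpowers u)
  have cL : ∀ a b : G, ⁅a, b⁆ ∈ L := fun a b => mem_sup_left (h.C_le (h.rc.comm a b))
  have nL : L.Normal := normal_of_comm_mem fun a _ b => cL b a
  have rL : (E ⊓ E₂).relIndex L = p := relIndex_sup_zpowers (le_normalizer_of_normal' this u)
    (fun e => huE e.1) (h.Phi_le (pow_mem_Phi trivial))
  have iL : L.index = p := by
    have := relIndex_mul_index (le_sup_left : E ⊓ E₂ ≤ L)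
    rw [rL, h.am.index_inf, sq] at this
    exact Nat.eq_of_mul_eq_mul_left hp.out.pos this
  have cLL : ∀ l ∈ L, ⁅l, u⁆ ∈ T := fun l hl =>
    comm_mem_of_sup (fun f hf => h.rc.cent f hf u) (by simp) hl
  have cu : ∀ e, ⁅e, u⁆ ∈ T → e ∈ L := fun e he => by
    by_contra hne
    exact huE (h.mem_inf_iff.2 fun g => commutator_mem_comm (comm_mem_of_sup cLL he
      (by rw [sup_zpowers_eq_top iL hne]; trivial))).1
  have nT := normal_map_of_ext hx htop h.normal h.σT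
  have nK := normal_map_of_ext hx htop nL fun k hk => by
    simpa using L.mul_mem hk (hσL k trivial)
  have nR : ι.range.Normal := by
    rw [MonoidHom.range_eq_map]; exact normal_map_of_ext hx htop inferInstance fun _ _ => trivial
  have τL : ∀ v ∈ L, (v ^ (a * a))⁻¹ * τ v ∈ E ⊓ E₂ := fun v hv =>
    wt_sup (τ := (τ : G →* G)) (h.map_inf (h.τT hτ)) hτu hv
  have τL' : ∀ v ∈ L, τ v ∈ L := fun v hv => by
    simpa using L.mul_mem (L.pow_mem hv (a * a)) (mem_sup_left (τL v hv))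
  let π := QuotientGroup.mk' (T.map ι)
  let R := (centralizer ((L.map ι).map π : Set (M ⧸ T.map ι))).comap π
  have mR : ∀ {r}, r ∈ R ↔ ∀ l ∈ L, ⁅r, ι l⁆ ∈ T.map ι := fun {r} => by
    simp only [comm_mem_iff_mem_comap, mem_comap, mem_centralizer_singleton_iff]
    rw [mem_comap, mem_centralizer_iff]
    constructor
    · exact fun hr l hl => (hr _ (mem_map_of_mem _ (mem_map_of_mem _ hl))).symm
    · rintro hr _ ⟨_, ⟨l, hl, rfl⟩, rfl⟩
      exact (hr l hl).symm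
  have mT : ∀ {a b : G}, ⁅ι a, ι b⁆ ∈ T.map ι ↔ ⁅a, b⁆ ∈ T := fun {a b} => by
    rw [← map_commutatorElement, mem_map_iff_mem hι]
  have hKR : R ⊓ ι.range = L.map ι := by
    refine le_antisymm ?_ ?_
    · rintro _ ⟨hr, g, rfl⟩
      exact mem_map_of_mem _ (cu g (mT.1 (mR.1 hr u huL)))
    · rintro _ ⟨l, hl, rfl⟩
      exact ⟨mR.2 fun l' hl' => mT.2 (commutator_mem_comm (comm_mem_of_sup
        (fun f hf => h.rc.cent f hf l) (commutator_mem_comm (cLL l hl)) hl')), l, rfl⟩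
  have hd : ⁅w, u⁆ ∉ T := fun e => hwL (cu w e)
  obtain ⟨x', hx'R, hx'⟩ : ∃ x' ∈ R, x' ∉ ι.range := by
    have h1 : σ u * u⁻¹ ∈ T ⊔ zpowers ⁅w, u⁆ := by
      rw [sup_zpowers_eq_of_relIndex_prime hp.out h.relIndex_C le_sup_left (h.rc.comm w u) hd, ← hC]
      simpa [mul_assoc] using this.conj_mem _ hσu u
    obtain ⟨s, hs, j, hj⟩ := (mem_sup_zpowers (le_normalizer_of_normal' h.normal _)).1 h1
    have cx : ∀ g : G, ⁅ι (w ^ (-j)) * x, ι g⁆ = ι (w ^ (-j) * (σ g * g⁻¹) * (w ^ (-j))⁻¹ *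
        ⁅w ^ (-j), g⁆) := fun g => by
      rw [comm_mul_left', comm_eq (x := x), ← hx]; simp [map_commutatorElement]
    refine ⟨ι (w ^ (-j)) * x, mR.2 fun l hl => commutator_mem_comm (comm_mem_of_sup (A := (E ⊓ E₂).map ι)
      (x := ι u) ?_ (commutator_mem_comm ?_) ?_), fun e => hxn ?_⟩
    · rintro _ ⟨f, hf, rfl⟩
      refine commutator_mem_comm ?_
      rw [cx]
      refine mem_map_of_mem _ (mul_mem (h.normal.conj_mem _ ?_ _)
        (commutator_mem_comm (h.rc.cent f hf _)))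
      simpa [mul_assoc] using h.normal.conj_mem _ (h.σC f (hC ▸ hf)) f
    · rw [cx, hj]
      refine mem_map_of_mem _ ((QuotientGroup.eq_one_iff _).1 ?_)
      have k1 : ∀ g : G, Commute (QuotientGroup.mk' T g) (QuotientGroup.mk' T ⁅w, u⁆) := fun g =>
        mem_centralizer_singleton_iff.1 (comm_mem_iff_mem_comap.1
          (commutator_mem_comm (h.rc.cent _ (h.C_le (h.rc.comm w u)) g)))
      have k2 := k1 w
      change QuotientGroup.mk' T _ = 1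
      simp only [map_mul, map_inv, map_zpow (QuotientGroup.mk' T) ⁅w, u⁆,
        show QuotientGroup.mk' T s = 1 from (QuotientGroup.eq_one_iff _).2 hs, one_mul]
      rw [((k1 (w ^ (-j))).zpow_right j).eq, mul_inv_cancel_right,
        map_commutatorElement _ (w ^ (-j)), map_zpow, map_commutatorElement] at *
      rw [commutator_zpow_left_of_commute k2, ← zpow_add, add_neg_cancel, zpow_zero]
    · simpa [hL, Subgroup.map_sup, MonoidHom.map_zpowers] using mem_map_of_mem ι hl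
    · simpa using mul_mem (inv_mem (⟨w ^ (-j), rfl⟩ : ι _ ∈ ι.range)) e
  have r3 : (L.map ι).relIndex R = p := hKR ▸ relIndex_inf_eq hM hi fun e => hx' (e hx'R)
  have h23 : L.map ι ≤ R := hKR ▸ inf_le_left
  have hR := sup_zpowers_eq_of_relIndex_prime hp.out r3 h23 hx'R fun e => hx' (map_le_range _ _ e)
  have τR : ∀ r ∈ R, τ' r ∈ R := fun r hr => mR.2 fun l hl => by
    obtain ⟨s, hs, e⟩ := mR.1 hr _ (inv_map_mem τL' l hl)
    refine ⟨τ s, h.τT hτ s hs, ?_⟩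
    rw [← e1, e, map_commutatorElement, e1]; simp
  refine ⟨τ', a, L.map ι, R, ι e, ha, ⟨hM, map_mono h.T_le, map_mono le_sup_left, h23,
    by rw [relIndex_map_map_of_injective _ _ hι, hC, h.relIndex_C],
    by rw [relIndex_map_map_of_injective _ _ hι, rL], r3, fun y hy z hz => ?_, ?_, ?_,
    fun v hv => ?_, ι w, fun v _ => ?_, ι u, mem_map_of_mem _ huL, ?_, fun e => hd ?_⟩, ?_, nT,
    fun e => hx' (e hx'R)⟩
  · refine commutator_mem_of_sup_zpowers₂ (fun g _ => le_normalizer_of_normal' nT g) hR ?_ hy hz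
    rintro _ ⟨l, hl, rfl⟩ r hr
    exact commutator_mem_comm (mR.1 hr l hl)
  · rintro _ ⟨f, hf, rfl⟩
    exact ⟨_, h.τC hτ f (hC ▸ hf), by simp [e1]⟩
  · rintro _ ⟨l, hl, rfl⟩
    exact ⟨_, τL l hl, by simp [e1]⟩
  · rw [← hKR]
    exact ⟨R.mul_mem (R.inv_mem (R.pow_mem hv _)) (τR v hv), wt_sup (by
      rintro _ ⟨g, rfl⟩; exact ⟨_, (e1 g).symm⟩) e2 (htop ▸ mem_top v)⟩
  · have := comm_mem_of_sup (K := L.map ι) (A := ι.range) (x := x) (b := ι w) (a := v⁻¹) (by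
      rintro _ ⟨g, rfl⟩
      exact ⟨_, cL g w, map_commutatorElement _ _ _⟩) ⟨_, nL.conj_mem _ huL w, by
        simp [hu, hx, comm_eq]⟩ (htop ▸ mem_top _)
    simpa [comm_eq, mul_assoc] using this
  · exact ⟨_, h.C_le (h.rc.comm u⁻¹ w), by simp [comm_eq, mul_assoc]⟩
  · have : u⁻¹ * (w * u * w⁻¹) ∈ T := (mem_map_iff_mem hι).1 (by simpa using e)
    simpa [comm_eq, mul_assoc] using h.normal.conj_mem _ this u
  · rintro _ ⟨z, hz, rfl⟩
    rw [e1, he z hz]; simp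

theorem final (h : NR') (h5 : 5 ≤ p) {M : Type*} [Group M] [Finite M] (hM : IsPGroup p M)
    {ι : G →* M} (hι : Function.Injective ι) {x : M} (hx : ∀ g, ι (σ g) = x * ι g * x⁻¹)
    (hi : ι.range.index = p) (hxn : x ∉ ι.range)
    (ext : ∀ τ ∈ B, ∀ (g : G) (μ : ℕ), τ * σ * τ⁻¹ = MulAut.conj g * σ ^ μ →
      ∃ τ' : M →* M, (∀ g, τ' (ι g) = ι (τ g)) ∧ (x ^ μ)⁻¹ * τ' x ∈ ι.range) :
    (IsElementaryAbelian p E ∧ Nat.card E = p ^ 2) ∨
      ∃ T₀ R : Subgroup M, T₀ ≤ R ∧ Phi p R ≤ T₀ ∧ T₀.relIndex R = p ^ 4 ∧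
        Nat.card E = Nat.card T₀ * p ^ 3 ∧ (E ⊓ E₂).map ι ≤ R ∧ ¬ R ≤ ι.range := by
  have hC := le_antisymm (h.alpha h5) h.C_le
  have hc : Nat.card E = Nat.card T * p ^ 2 := by
    rw [← card_mul_relIndex h.rc.i₁.le, ← relIndex_mul_relIndex _ _ _ h.T_le inf_le_left,
      h.am.relIndex₁, hC, h.relIndex_C, sq]
  by_cases hT : T = ⊥
  · exact Or.inl ⟨Phi_eq_bot_iff.1 (le_bot_iff.1 (hT ▸ h.rc.phi₁)), by rw [hc, hT]; simp⟩
  right
  obtain ⟨τ', a, K₂, K₃, e, ha, hW, he, hn, hK⟩ := h.exists_w4 h5 hM hι hx hi hxn ext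
  obtain ⟨T₀, h1, h2, h3⟩ := exists_le_relIndex_eq_of_lt (hM.to_subgroup _)
    (commutator_lt_of_ne_bot (P := ⊤) (hM.to_subgroup _) le_top
      (fun g _ => le_normalizer_of_normal' hn g)
      (fun e => hT ((map_eq_bot_iff_of_injective _ hι).1 e)))
  have hc' : ∀ z ∈ T.map ι, ∀ g : M, ⁅z, g⁆ ∈ T₀ := fun z hz g =>
    h1 (commutator_mem_commutator hz trivial)
  have hf : ∀ z ∈ T.map ι, z⁻¹ * τ' z ∈ T₀ := fun z hz => by
    simpa [he z hz, comm_eq, mul_assoc] using hc' _ (inv_mem hz) e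
  have l2 := h2.trans (hW.h01.trans hW.h12)
  refine ⟨T₀, K₃, l2.trans hW.h23, hW.phi_le ha h2 h3 hc'
    (fun z hz => by simpa using T₀.mul_mem hz (hf z (h2 hz))) hf, ?_, ?_, hW.h12.trans hW.h23, hK⟩
  · rw [← relIndex_mul_relIndex _ _ _ l2 hW.h23, ← relIndex_mul_relIndex _ _ _ (h2.trans hW.h01)
      hW.h12, ← relIndex_mul_relIndex _ _ _ h2 hW.h01, h3, hW.r1, hW.r2, hW.r3]; ring
  · rw [hc, ← card_map_of_injective (K := T) hι, ← card_mul_relIndex h2, h3]; ring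

end NR

end Cfsg.Agent.H9
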