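import Cfsg.Agent.Lib.H9.Five

/-!
# Fusion systems on groups of order `p ^ 5`
-/

set_option autoImplicit false

open Subgroup
open scoped commutatorElement

namespace Cfsg.Agent.H9

open Cfsg.Agent.H1 Cfsg.Agent.H7 FusionSystem

theorem zmod_three_key :
    ∀ a γ d : ZMod 3, a = γ * d * d * d → a = γ * (γ * d) → a ≠ 0 → γ = 1 := by decide

theorem zmod_three_key' :
    ∀ a c d ω : ZMod 3, a = d * (d * c) → a = ω * c → a ≠ 0 → ω = 1 := by decide

variable {p : ℕ} {Ω : Type*} [Group Ω] {S : Subgroup Ω} {F : FusionSystem S} {E Y : Subgroup Ω}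
  {M : Subgroup (MulAut E)} [hp : Fact p.Prime] [Finite S]

local notation "L" => Subgroup.lowerCentralSeries S
local notation "N" => normalizerIn S E
local notation "Z" => normalizerIn S E ⊓ centralizer (normalizerIn S E : Set Ω)

/-- Abelian subgroups have order at most `p ^ 3`. -/
def AbSmall (p : ℕ) (S : Subgroup Ω) : Prop :=
  ∀ A ≤ S, (∀ a ∈ A, ∀ b ∈ A, a * b = b * a) → Nat.card A ≤ p ^ 3

theorem EssCtx.exists_radT' (h : EssCtx p F E M) : ∃ t, RadT p (F.autGroup E) t :=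
  exists_radT h.hS h.ess

theorem EssCtx.types (h : EssCtx p F E M) (hodd : Odd p) (hc : Nat.card S = p ^ 5)
    (hno : AbSmall p S) : IsPearlCard p E ∨ (Nat.card E = p ^ 3 ∧ IsElementaryAbelian p E) ∨
      (Nat.card E = p ^ 4 ∧ ¬ IsMulCommutative E ∧ Nat.card (Phi p (⊤ : Subgroup E)) = p) := by
  have := h.finite
  obtain ⟨t, ht⟩ := h.exists_radT'
  obtain ⟨n, hn⟩ := exists_card_eq_pow h.isPGroup
  have h1 := card_lt_of_lt' h.lt
  have h2 := (ht.sq_dvd h.isPGroup).trans (index_dvd_card _)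
  rw [hn, hc, Nat.pow_lt_pow_iff_right hp.out.one_lt] at h1
  rw [hn, Nat.pow_dvd_pow_iff_le_right hp.out.one_lt] at h2
  obtain rfl | rfl | rfl : n = 2 ∨ n = 3 ∨ n = 4 := by omega
  · exact .inl (.inl hn)
  · by_cases hab : IsMulCommutative E
    · rcases ht.card_cube hn with h3 | h3 | h3
      · exact .inr (.inl ⟨hn, Phi_subgroup_top_eq_bot_iff.1 h3⟩)
      · exact absurd hab (IsExtraspecial.not_isMulCommutative h3.2.1)
      · exact absurd (h3.1 ▸ hodd) (by decide)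
    · exact .inl (.inr ⟨hn, hab⟩)
  · have hab : ¬ IsMulCommutative E := fun hab => by
      have := hno E h.le (isMulCommutative_iff_forall.1 hab)
      rw [hn, Nat.pow_le_pow_iff_right hp.out.one_lt] at this
      omega
    refine .inr (.inr ⟨hn, hab, ?_⟩)
    obtain ⟨j, hj⟩ := h.isPGroup.index (Phi p ⊤)
    have h3 := ht.sq_dvd h.isPGroup
    have h4 := index_dvd_card (Phi p (⊤ : Subgroup E))
    rw [hj, Nat.pow_dvd_pow_iff_le_right hp.out.one_lt] at h3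
    rw [hj, hn, Nat.pow_dvd_pow_iff_le_right hp.out.one_lt] at h4
    obtain rfl | rfl | rfl : j = 2 ∨ j = 3 ∨ j = 4 := by omega
    · exact absurd (ht.isMulCommutative_of_card_four hn hj) hab
    · simpa using card_eq_of_index (a := 1) hp.out.pos hn hj
    · exact absurd ⟨⟨(Phi_top_eq_bot_iff.1 (card_eq_one.1 (by
        simpa using card_eq_of_index (a := 0) hp.out.pos hn hj))).2⟩⟩ hab

omit hp [Finite S] in
theorem IsIso.map_Phi {f : Ω → Ω} (hf : F.IsIso E E f) {x : Ω} (hx : x ∈ Phi p E) :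
    f x ∈ Phi p E :=
  (Phi_subgroupOf (P := E) ▸ (AInv.top (F.autGroup E)).Phi : AInv _ ((Phi p E).subgroupOf E)) _
    hf.toMulEquiv_mem_autGroup ⟨x, Phi_le E hx⟩ hx

theorem EssCtx.norm_of_card_four (h : EssCtx p F E M) (hc : Nat.card S = p ^ 5)
    (hE : Nat.card E = p ^ 4) : S ≤ normalizer (E : Set Ω) :=
  le_normalizer_of_relIndex_eq h.hS h.le (by
    rw [relIndex_eq_of_card h.le (a := 4) (b := 1) hp.out.pos hc hE, pow_one])

theorem EssCtx.map_center_of_card_four (h : EssCtx p F E M) (hc : Nat.card S = p ^ 5)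
    (hE : Nat.card E = p ^ 4) (hna : ¬ IsMulCommutative E)
    (hΦ : Nat.card (Phi p (⊤ : Subgroup E)) = p) {f : Ω → Ω} (hf : F.IsIso E E f) {z : Ω}
    (hz : z ∈ S ⊓ centralizer (S : Set Ω)) : f z ∈ S ⊓ centralizer (S : Set Ω) := by
  have h1 := card_center_of_card_four hE hΦ hna
  rw [← Phi_subgroupOf, card_subgroupOf_of_le (Phi_le E)] at hΦ
  rw [card_center_eq] at h1
  have h2 : Phi p E ≤ S ⊓ centralizer (S : Set Ω) := fun x hx => ⟨h.le (Phi_le E hx), fun g hg =>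
    commute_of_card_prime hΦ h.hS ((h.norm_of_card_four hc hE).trans
      (normalizer_le_normalizer_Phi E)) hg hx⟩
  have h3 : S ⊓ centralizer (S : Set Ω) ≤ E ⊓ centralizer (E : Set Ω) :=
    le_inf h.center_le (inf_le_right.trans (Subgroup.centralizer_le h.le))
  rcases eq_or_eq_of_relIndex_prime hp.out (by
    rw [relIndex_eq_of_card (h2.trans h3) (a := 1) (b := 1) hp.out.pos h1 (by rwa [pow_one]),
      pow_one]) h2 h3 with e | e <;> rw [e] at hz ⊢
  exacts [IsIso.map_Phi hf hz, IsIso.map_center hf hz]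

theorem EssCtx.inv_mul_mem_five (h : EssCtx p F E M) (hodd : Odd p) (hc : Nat.card S = p ^ 5)
    (hno : AbSmall p S) {K : Subgroup Ω} (hK : Phi p S ≤ K)
    (hS : ∀ f, F.IsIso S S f → ∀ x ∈ S, x⁻¹ * f x ∈ K) {f : Ω → Ω}
    (hf : F.IsIso E E f) {x : Ω} (hx : x ∈ E) : x⁻¹ * f x ∈ K := by
  have := h.finite
  rcases h.types hodd hc hno with h1 | ⟨h1, h2⟩ | ⟨h1, h2, h3⟩
  · refine h.inv_mul_mem_of_ext hodd (AInv.top _).Phi le_rfl ?_ (by simp)
      (fun f => h.exists_ext_of_pearl h1) hK hS hf hx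
    rcases h1 with h1 | ⟨h1, h2⟩
    · obtain ⟨t, ht⟩ := h.exists_radT'
      rw [(ht.card_sq h1).1, index_bot, h1]
    · refine index_eq_of_card (a := 1) hp.out.pos h1 ?_
      rw [← Phi_subgroupOf, card_subgroupOf_of_le (Phi_le E), (h.center_eq_of_card_cube h1 h2).2,
        pow_one]
  · obtain ⟨Y, h5⟩ := (h.five0 hc h1 h2).exists_five
    obtain ⟨C, iC, hC⟩ := (h.five_data h5).1
    have h3 := Phi_subgroup_top_eq_bot_iff.2 h2
    exact h.inv_mul_mem_of_ext hodd iC (h3 ▸ bot_le)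
      (index_eq_of_card (a := 1) hp.out.pos h1 (by rwa [pow_one]))
      (by rw [h3, relIndex_bot_left, hC]) (fun f => h.five_ext h5) hK hS hf hx
  · have h4 := card_center_of_card_four h1 h3 h2
    have h5 := le_center_of_card_prime h.isPGroup h3
    refine h.inv_mul_mem_of_ext hodd (AInv.of_characteristic _ (center E)) h5
      (index_eq_of_card (a := 2) hp.out.pos h1 h4) (by
        rw [relIndex_eq_of_card h5 (a := 1) (b := 1) hp.out.pos h4 (by rwa [pow_one]), pow_one])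
      (fun f hf => ⟨f, ?_, fun _ _ => rfl⟩) hK hS hf hx
    rwa [show normalizerIn S E = S from inf_eq_left.2 (h.norm_of_card_four hc h1)] at hf

/-- `Aut_F(S)` has no fixed points on `S / Φ(S)`. -/
def NoFix (p : ℕ) (F : FusionSystem S) : Prop :=
  ∀ K < S, Phi p S ≤ K → ¬ ∀ f, F.IsIso S S f → ∀ x ∈ S, x⁻¹ * f x ∈ K

theorem noFix_of_focal (hS : IsPGroup p S) (hF : F.IsSaturated p) (hodd : Odd p)
    (hc : Nat.card S = p ^ 5) (hno : AbSmall p S) (hfoc : S ≤ F.focalSubgroup) : NoFix p F :=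
  fun _ hK hΦ h => hK.not_ge (hfoc.trans (focalSubgroup_le_of_essential hS hF fun P hP f hf x hx =>
    hP.elim (fun e => by subst e; exact h f hf x hx) fun hP =>
      (exists_essCtx hS hF hP).elim fun _ hM => hM.inv_mul_mem_five hodd hc hno hΦ h hf hx))

omit hp [Finite S] in
theorem Wt.inv_mul_mem {f : Ω → Ω} {A K : Subgroup Ω} (h : Wt f A K 1)
    (hn : A ≤ normalizer (K : Set Ω)) {y : Ω} (hy : y ∈ A) : y⁻¹ * f y ∈ K := by
  simpa [mul_assoc] using H9.conj_mem_of_mem_normalizer' (hn hy) (h y hy)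

omit hp [Finite S] in
theorem IsIso.map_lcs {f : Ω → Ω} (hf : F.IsIso S S f) (k : ℕ) : ∀ x ∈ L k, f x ∈ L k :=
  fun _ hx => IsMor.map_mem_lcs hf.mor le_rfl hf.mapsTo hx

theorem MaxCl.weights (hm : MaxCl p S 5) (hno : AbSmall p S) {s : Ω} (hs : Unif S 5 s) {f : Ω → Ω}
    (hf : F.IsIso S S f) {d γ a : ℤ} (wd : f s * (s ^ d)⁻¹ ∈ gam S) (wγ : Wt f (gam S) (L 1) γ)
    (wa : Wt f (L 3) (L 4) a) : a ≡ γ * d * d * d [ZMOD p] ∧ a ≡ γ * (γ * d) [ZMOD p] := by
  have hg := hm.relIndex_one_gam (by omega)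
  obtain ⟨t, ht, ht'⟩ := SetLike.not_le_iff_exists.1 fun h' => hp.out.one_lt.ne'
    (hg.symm.trans (relIndex_eq_one.2 h'))
  have htS := MaxCl.gam_le ht
  have w : ∀ k, 1 ≤ k → ∃ e, Wt f (L k) (L (k + 1)) e := fun k hk =>
    exists_wt hm.hS hf.mor.isHomOn (lcs_le S k) (fun _ => lcs_anti S k.le_succ)
      (hm.relIndex_lcs_dvd hk) (IsIso.map_lcs hf k) (IsIso.map_lcs hf _)
  obtain ⟨l1, w1⟩ := w 1 le_rfl
  obtain ⟨l2, w2⟩ := w 2 one_le_two
  have r := fun {k : ℕ} {K₁ K₂ : Subgroup Ω} => @wt_rel _ _ p _ S (L k) f hm.hS K₁ K₂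
    (fun _ => lcs_norm S k) hf.mor.isHomOn hf.mapsTo
  have cc : ∀ {k : ℕ} {x : Ω}, x ∈ L k → ∀ g ∈ S, ⁅g, x⁆ ∈ L (k + 1) := fun hx g hg =>
    commutator_mem_comm (commutator_mem_lcs hx hg)
  have hu : ⁅t, s⁆ ∈ L 1 := commutator_mem_commutator htS hs.mem
  have hu' := hm.commutator_not_mem_two (by omega) hs.mem (hm.not_mem_gam (by omega) hs) ht ht'
  have hv : ⁅⁅t, s⁆, s⁆ ∈ L 2 := commutator_mem_lcs hu hs.mem
  have hv' : ⁅⁅t, s⁆, s⁆ ∉ L 3 := fun h => hu' (hs.step 1 le_rfl (by omega) _ hu h)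
  have g2 := hm.commutator_two_gam
  have r1 := r htS hs.mem (wγ t ht) wd (w1 _ hu) hu' (cc hu)
    (fun a ha => commutator_mem_lcs ha hs.mem)
    (fun b hb => lcs_anti S (by omega) (hm.commutator_gam (by omega) ht hb))
    (fun a ha b hb => commutator_mem_lcs ha (MaxCl.gam_le hb))
  have r2 := r (lcs_le S 1 hu) hs.mem (w1 _ hu) wd (w2 _ hv) hv' (cc hv)
    (fun a ha => commutator_mem_lcs ha hs.mem)
    (fun b hb => commutator_mem_comm (hb.2 _ hu))
    (fun a ha b hb => commutator_mem_lcs ha (MaxCl.gam_le hb))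
  have r3 := r (lcs_le S 2 hv) hs.mem (w2 _ hv) wd (wa _ (commutator_mem_lcs hv hs.mem))
    (fun h => hv' (hs.step 2 one_le_two (by omega) _ hv h)) (cc (commutator_mem_lcs hv hs.mem))
    (fun a ha => commutator_mem_lcs ha hs.mem)
    (fun b hb => g2 (commutator_mem_commutator hv hb))
    (fun a ha b hb => commutator_mem_lcs ha (MaxCl.gam_le hb))
  have b4 := hm.eq_bot (k := 4) le_rfl
  have ce : ∀ {a b : Ω}, ⁅a, b⁆ ∈ L 4 → a * b = b * a := fun h =>
    commutatorElement_eq_one_iff_mul_comm.1 (mem_bot.1 (b4 ▸ h))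
  have r4 := r htS (lcs_le S 1 hu) (wγ t ht) (w1 _ hu) (wa _ (ht.2 _ hu)) (fun h => ?_)
    (cc (ht.2 _ hu)) (fun a ha => hm.commutator_one_one (commutator_mem_commutator ha hu))
    (fun b hb => commutator_mem_comm (g2 (commutator_mem_commutator hb ht)))
    (fun a ha b hb => lcs_anti S (by omega) (commutator_mem_lcs_add ha hb))
  · exact ⟨r3.trans ((r2.trans (r1.mul_right d)).mul_right d), r4.trans (r1.mul_left γ)⟩
  · have e := sup_zpowers_eq_of_relIndex_prime hp.out hg MaxCl.one_le_gam ht ht'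
    have h1 := hno _ MaxCl.gam_le fun a ha b hb => mul_comm_of_le_sup_zpowers ht
      (fun k hk g hg => (mul_comm_of_sup_zpowers e (fun l hl => ce (hm.commutator_one_one
        (commutator_mem_commutator hl hk))) (mul_comm_of_sup_zpowers (hm.sup_eq le_rfl hu hu')
        (fun l hl => ce (g2 (commutator_mem_commutator hl ht))) (ce h).symm hk).symm hg).symm)
      e.ge ha hb
    rw [card_eq_of_relIndex (a := 4) (b := 1) MaxCl.gam_le hp.out.pos hm.card
      (by rw [pow_one, hm.relIndex_gam (by omega)]), Nat.pow_le_pow_iff_right hp.out.one_lt] at h1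
    omega

theorem EssCtx.exists_diag_five (h : EssCtx p F E M) (hE : Nat.card E = p ^ 2) (hm : MaxCl p S 5)
    {a d : ℤ} (had : a * d ≡ 1 [ZMOD p]) : ∃ s, Unif S 5 s ∧ ∃ f, F.IsIso S S f ∧
      (∀ z ∈ L 3, f z = z ^ a) ∧ f s = s ^ d := by
  obtain ⟨-, s₀, hs₀E, hs₀⟩ := h.pearl (.inl hE) hm.card
  obtain ⟨k, -, -, e, hk, -⟩ := h.eq_tower (.inl hE) hm hs₀E hs₀
  obtain rfl : k = 2 := by have := hk hE; omega
  have h1 : E.relIndex N = p := by
    rw [relIndex_eq_of_card (le_normalizerIn h.le) (a := 2) (b := 1) hp.out.pos ?_ hE, pow_one]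
    rw [e, hm.normalizer_tower hs₀ le_rfl, hm.card_tower hs₀ (by omega)]
  obtain ⟨u, hu, huE⟩ := SetLike.exists_of_lt (lt_normalizerIn h.hS h.lt)
  obtain ⟨s, hs, hs', f, hf, e1, e2, e3⟩ := h.exists_diag_of_card_sq hE hm hu.1 huE hu.2 had
  have e4 := sup_zpowers_eq_of_relIndex_prime hp.out h1 (le_normalizerIn h.le) hu huE
  have e5 := h.sup_eq_of_card_sq hE hs (by rwa [hm.center_eq])
  rw [hm.center_eq] at e5
  have hle : E ≤ E ⊔ zpowers u := le_sup_left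
  have h2 : ∀ x ∈ L 3 ⊔ zpowers s, f x ∈ E := (hf.isHomOn.mono (e5.le.trans hle)).mapsTo_sup
    (fun z hz => e1 z hz ▸ E.zpow_mem (e5.le (mem_sup_left hz)) a) (by
      rintro _ ⟨i, rfl⟩
      simp only
      rw [hf.map_zpow (hle hs), e2]
      exact E.zpow_mem (E.zpow_mem hs d) i)
  have h3 := hf.isIso_self (hf.isHomOn.mapsTo_sup (fun x hx => hle (h2 x (e5.ge hx))) (by
    rintro _ ⟨i, rfl⟩
    simp only
    rw [hf.map_zpow (mem_sup_right (mem_zpowers u))]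
    exact zpow_mem ((mul_mem_cancel_left (inv_mem (mem_sup_right (zpow_mem (mem_zpowers u) _)))).1
      (hle e3)) i))
  obtain ⟨g, hg, e6⟩ := h.exists_ext_of_pearl (.inl hE) (e4 ▸ h3)
  exact ⟨s, h.unif_of_card_sq hE hm hs hs', g, hg, fun z hz => by
    rw [e6 z (le_normalizerIn h.le (e5.le (mem_sup_left hz))), e1 z hz],
    by rw [e6 s (le_normalizerIn h.le hs), e2]⟩

theorem eq_three_of_dvd {n : ℕ} (h : ((3 ^ n * 7 : ℕ) : ZMod p) = 0) (h7 : p ≠ 7) : p = 3 := by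
  rcases (Nat.Prime.dvd_mul hp.out).1 ((ZMod.natCast_eq_zero_iff _ _).1 h) with h | h
  · exact (Nat.prime_dvd_prime_iff_eq hp.out Nat.prime_three).1 (hp.out.dvd_of_dvd_pow h)
  · exact absurd ((Nat.prime_dvd_prime_iff_eq hp.out (by norm_num)).1 h) h7

theorem cast_eq_of_modEq {a b : ℤ} (h : a ≡ b [ZMOD p]) : (a : ZMod p) = b :=
  (ZMod.intCast_eq_intCast_iff a b p).2 h

theorem EssCtx.false_of_card_sq (h : EssCtx p F E M) (hE : Nat.card E = p ^ 2) (hodd : Odd p)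
    (h7 : p ≠ 7) (hc : Nat.card S = p ^ 5) (hno : AbSmall p S) (hfix : NoFix p F) : False := by
  obtain ⟨hm, s₀, -, hs₀⟩ := h.pearl (.inl hE) hc
  have b4 := hm.eq_bot (k := 4) le_rfl
  have ig : ∀ f, F.IsIso S S f → ∀ x ∈ gam S, f x ∈ gam S := fun f hf x => IsIso.map_mem_gam hf
  have wγ : ∀ f, F.IsIso S S f → ∃ γ, Wt f (gam S) (L 1) γ := fun f hf =>
    exists_wt h.hS hf.mor.isHomOn MaxCl.gam_le MaxCl.one_le_gam
      (hm.relIndex_one_gam (by omega)).dvd (ig f hf) (IsIso.map_lcs hf 1)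
  obtain rfl : p = 3 := by
    obtain ⟨a, ha⟩ := exists_inv_two hodd
    obtain ⟨s, hs, f, hf, e1, e2⟩ := h.exists_diag_five hE hm ha
    obtain ⟨γ, hγ⟩ := wγ f hf
    obtain ⟨r1, r2⟩ := hm.weights hno hs hf (d := 2) (a := a) (by simp [e2]) hγ
      fun z hz => by simp [e1 z hz]
    have r1 := cast_eq_of_modEq r1
    have r2 := cast_eq_of_modEq r2
    have ha := cast_eq_of_modEq ha
    push_cast at r1 r2 ha
    refine eq_three_of_dvd (n := 2) ?_ h7
    push_cast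
    linear_combination (-64) * (-2 * r2 + ha) + (16 * γ + 1) * (-2 * r1 + ha)
  obtain ⟨s, hs, τ, hτ, -, e⟩ := h.exists_diag_five hE hm (a := -1) (d := -1) (by decide)
  refine (exists_lt_of_neg h.hS hodd (Y := gam S)
    (lt_of_le_of_ne MaxCl.one_le_gam fun e => by
      have := hm.relIndex_one_gam (by omega)
      rw [← e, relIndex_self] at this
      omega) MaxCl.gam_le (fun y hy => hm.pow_mem_one (MaxCl.gam_le hy)) hτ (fun g hg => ?_)
    (fun f hf y hy => ?_) (fun f hf g hg => inv_mul_mem_lcs_of_chain h.hS h.sat MaxCl.gam_le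
      MaxCl.one_le_gam le_rfl (hm.relIndex_gam (by omega)).dvd (hm.relIndex_one_gam (by omega)).dvd
      (by simp) hm.Phi_eq.ge ig (fun f hf => IsIso.map_lcs hf 1) (fun f hf => IsIso.map_lcs hf 1)
      hf hτ hg)).elim fun K hK => hfix K hK.1 hK.2.1 hK.2.2
  · refine ((show S ≤ negSub hτ.mor.isHomOn hτ.mapsTo _ MaxCl.one_le_gam from ?_) hg).2
    refine (sup_zpowers_eq_of_relIndex_prime hp.out (hm.relIndex_gam (by omega)) MaxCl.gam_le hs.mem
      (hm.not_mem_gam (by omega) hs)).ge.trans (sup_le (fun x hx => ⟨MaxCl.gam_le hx,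
        mul_mem hx (ig τ hτ x hx)⟩) (zpowers_le.2 ⟨hs.mem, by simp [e]⟩))
  · obtain ⟨γ, hγ⟩ := wγ f hf
    obtain ⟨d, hd⟩ := exists_wt h.hS hf.mor.isHomOn le_rfl MaxCl.gam_le
      (hm.relIndex_gam (by omega)).dvd hf.mapsTo (ig f hf)
    obtain ⟨a, ha⟩ := exists_wt h.hS hf.mor.isHomOn (lcs_le S 3) (fun _ => lcs_anti S (by omega))
      (hm.relIndex_lcs_dvd (k := 3) (by omega)) (IsIso.map_lcs hf 3) (IsIso.map_lcs hf _)
    obtain ⟨r1, r2⟩ := hm.weights hno hs hf (hd s hs.mem) hγ ha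
    obtain ⟨z, hz, hz1⟩ := SetLike.exists_of_lt (hm.lt (k := 3) le_rfl)
    have h2 := not_dvd_of_wt (lcs_anti S (by omega) (hm.pow_mem hs (by omega) hz))
      (fun h' => hz1 (by
        rw [b4, mem_bot, hf.mor.eq_one_iff (lcs_le S 3 hz)] at h'
        exact h' ▸ one_mem _)) (ha z hz)
    have h3 := zmod_three_key a γ d (by exact_mod_cast cast_eq_of_modEq r1)
      (by exact_mod_cast cast_eq_of_modEq r2) (mt (ZMod.intCast_zmod_eq_zero_iff_dvd _ _).1 h2)
    exact (hγ.of_modEq ((ZMod.intCast_eq_intCast_iff γ 1 3).1 (by exact_mod_cast h3))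
      fun y hy => hm.pow_mem_one (MaxCl.gam_le hy)).inv_mul_mem
      (fun g hg => lcs_norm S 1 (MaxCl.gam_le hg)) hy

theorem EssCtx.five_diag (h : EssCtx p F E M) (h5 : Five p S E Y) :
    ∃ x ∈ E, x ∉ Z ∧ ∃ w ∈ Z, w ∉ ⁅N, N⁆ ∧ ∀ a d : ℤ, a * d ≡ 1 [ZMOD p] → ∃ f, F.IsIso S S f ∧
      F.IsIso N N f ∧ Wt f ⁅N, N⁆ ⊥ a ∧ f x = x ^ d ∧ f w = w := by
  obtain ⟨x, hx, hxZ, w, hw, hw', h1⟩ := (h.five_data h5).2
  refine ⟨x, hx, hxZ, w, hw, hw', fun a d had => ?_⟩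
  obtain ⟨f, hf, e1, e2, e3⟩ := h1 a d had
  obtain ⟨g, hg, e⟩ := h.five_ext h5 hf
  exact ⟨g, hg, hf.congr fun x hx => (e x hx).symm, fun z hz => by
    simp [e z (lcs_le _ 1 hz), e1 z hz], by rw [e x (le_normalizerIn h.le hx), e2],
    by rw [e w hw.1, e3]⟩

theorem two_ne_zero_of_odd (hodd : Odd p) : (2 : ZMod p) ≠ 0 := fun h =>
  Nat.not_even_iff_odd.2 hodd (((Nat.prime_dvd_prime_iff_eq hp.out Nat.prime_two).1
    ((ZMod.natCast_eq_zero_iff 2 p).1 (by exact_mod_cast h))) ▸ even_two)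

theorem EssCtx.commutator_Y (h : EssCtx p F E M) (h5 : Five p S E Y) (hodd : Odd p) {g y : Ω}
    (hg : g ∈ S) (hy : y ∈ Y) : ⁅g, y⁆ ∈ ⁅N, N⁆ := by
  obtain ⟨x, hx, hxZ, w, hw, hw', h1⟩ := h.five_diag h5
  obtain ⟨f, hf, hfN, wa, e1, e2⟩ := h1 (-1) (-1) (Int.ModEq.refl _)
  obtain ⟨b, hb, hbN⟩ := h5.exists_not_mem
  have hxN := le_normalizerIn h.le hx
  have hv : ⁅x, b⁆ ∈ Y := commutator_mem_comm (h5.commutator_N hb hxN)
  have hvE := h5.not_commutator_mem hx hxZ hb hbN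
  have hvZ : ⁅x, b⁆ ∉ Z := fun h' => hvE (h5.Z_le h')
  have hH := hf.mor.isHomOn
  obtain ⟨c, wc⟩ := exists_wt h.hS hH le_rfl normalizerIn_le h5.relIndex_N.dvd hf.mapsTo hfN.mapsTo
  obtain ⟨e, we⟩ := exists_wt h.hS hH h5.le_S h5.ZY h5.relIndex_ZY.dvd
    (fun y => h.map_mem_Y h5 hfN) fun y => IsIso.map_center hfN
  obtain ⟨ω, wω⟩ := exists_wt h.hS hH (h5.Z_le.trans h.le) h5.Z0_le h5.relIndex_Z0.dvd
    (fun y => IsIso.map_center hfN) fun y => IsIso.map_commutator hfN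
  have wx : f x * (x ^ (-1 : ℤ))⁻¹ ∈ (⊥ : Subgroup Ω) := by simp [e1]
  have hxv := commutator_mem_commutator hxN (h5.YN hv)
  have r1 := wt_rel h.hS h5.norm_Z hH hf.mapsTo hxN.1 hb wx (wc b hb) (we _ hv) hvZ
    (fun g hg => h5.commY g hg _ hv) (by simp)
    (fun n hn => h5.Z0_le (commutator_mem_commutator hxN hn)) (by simp)
  have r2 := wt_rel h.hS le_normalizer_of_normal hH hf.mapsTo hxN.1 (h5.le_S hv) wx (we _ hv)
    (wa _ hxv) (fun h' => hvE (h5.mem_E hx hxZ (h5.YN hv)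
      (commutatorElement_eq_one_iff_mul_comm.1 h').symm))
    (fun g hg => commutator_mem_of_comm _ (h5.comm_Z0 hg hxv)) (by simp)
    (fun z hz => commutator_mem_of_comm _ (hz.2 x hxN)) (by simp)
  have r3 := modEq_of_wt h.hS hw.1.1 hw' (wω w hw) (e' := 1) (by simp [e2])
  have h2 : ⁅⁅x, b⁆, b⁆ ∈ ⁅N, N⁆ := by
    by_contra hne
    have hz := commutator_mem_comm (h5.commY b hb _ hv)
    have r4 := wt_rel h.hS h5.norm_Z0 hH hf.mapsTo (h5.le_S hv) hb (we _ hv) (wc b hb) (wω _ hz) hne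
      (fun g hg => h5.commutator_Z hg hz) (fun z hz => commutator_mem_comm (h5.commutator_Z hb hz))
      (fun n hn => commutator_mem_commutator (h5.YN hv) hn)
      (fun z hz n hn => commutator_mem_commutator hz.1 hn)
    have r1 := cast_eq_of_modEq r1
    have r2 := cast_eq_of_modEq r2
    have r3 := cast_eq_of_modEq r3
    have r4 := cast_eq_of_modEq r4
    push_cast at r1 r2 r3 r4
    exact two_ne_zero_of_odd hodd (by linear_combination r4 - r3 + (c - 1) * r2 + r1)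
  exact commutator_mem_comm (commutator_mem_of_sup_zpowers (h5.le_S.trans h5.norm_Z0)
    (sup_zpowers_eq_of_relIndex_prime hp.out h5.relIndex_ZY h5.ZY hv hvZ)
    (fun z hz => commutator_mem_comm (h5.commutator_Z hg hz))
    (commutator_mem_comm (commutator_mem_of_sup_zpowers h5.norm_Z0 (h5.sup_N hb hbN)
      (fun n hn => commutator_mem_commutator hn (h5.YN hv)) (commutator_mem_comm h2) hg)) hy)

theorem EssCtx.false_of_five (h : EssCtx p F E M) (h5 : Five p S E Y) (hodd : Odd p)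
    (hno : AbSmall p S) (hfix : NoFix p F) : False := by
  obtain ⟨x, hx, hxZ, w, hw, hw', h1⟩ := h.five_diag h5
  obtain ⟨b₀, hb₀, hb₀N⟩ := h5.exists_not_mem
  have hY := fun {g y : Ω} => h.commutator_Y h5 hodd (g := g) (y := y)
  have hxN := le_normalizerIn h.le hx
  have hxY : x ∉ Y := fun h' => hxZ (h5.mem_Z h' hx)
  have hwY := h5.ZY hw
  have hv : ∀ b ∈ S, ⁅x, b⁆ ∈ Y := fun b hb => commutator_mem_comm (h5.commutator_N hb hxN)
  have hne : ∀ b ∈ S, b ∉ N → x * ⁅x, b⁆ ≠ ⁅x, b⁆ * x := fun b hb hbN h' =>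
    h5.not_commutator_mem hx hxZ hb hbN (h5.mem_E hx hxZ (h5.YN (hv b hb)) h'.symm)
  have hyE := h5.not_commutator_mem hx hxZ hb₀ hb₀N
  have hy := hv b₀ hb₀
  set y := ⁅x, b₀⁆ with hydef
  have hyZ : y ∉ Z := fun h' => hyE (h5.Z_le h')
  obtain ⟨i, hi⟩ := exists_zpow_mul_commute h5.cardZ0 (hY hxN.1 hy) (hne b₀ hb₀ hb₀N) (hY hb₀ hy)
    fun z hz => h5.comm_Z0 hxN.1 hz
  have hb : x ^ i * b₀ ∈ S := S.mul_mem (S.zpow_mem hxN.1 i) hb₀
  have hbN : x ^ i * b₀ ∉ N := fun h' => hb₀N ((mul_mem_cancel_left (zpow_mem hxN i)).1 h')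
  generalize x ^ i * b₀ = b at hi hb hbN
  have hbY : b ∉ Y := fun h' => hbN (h5.YN h')
  have sZ := sup_zpowers_eq_of_relIndex_prime hp.out h5.relIndex_Z0 h5.Z0_le hw hw'
  have sY := sup_zpowers_eq_of_relIndex_prime hp.out h5.relIndex_ZY h5.ZY hy hyZ
  have hwb : w * b ≠ b * w := fun h' => by
    have h2 : ∀ v ∈ Y, v * b = b * v := fun v hv => mul_comm_of_sup_zpowers sY
      (fun z hz => mul_comm_of_sup_zpowers sZ (fun z hz => (h5.comm_Z0 hb hz).symm) h' hz) hi.symm hv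
    have hle := sup_le h5.le_S (zpowers_le.2 hb)
    have : Finite (Y ⊔ zpowers b : Subgroup Ω) := finite_of_le hle
    have h3 := hno _ hle fun u hu v hv => mul_comm_of_le_sup_zpowers (mem_sup_right (mem_zpowers b))
      (fun k hk g hg => (mul_comm_of_sup_zpowers rfl (fun l hl => h5.comm_Y hl hk) (h2 k hk).symm
        hg).symm) le_rfl hu hv
    exact (h5.cardY ▸ card_lt_of_lt' (lt_of_le_of_ne le_sup_left fun e =>
      hbY (e.ge (mem_sup_right (mem_zpowers b))))).not_ge h3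
  -- characteristic subgroups
  have cZ : S ⊓ centralizer (S : Set Ω) = ⁅N, N⁆ :=
    (eq_or_eq_of_relIndex_prime (M := S ⊓ centralizer (S : Set Ω)) hp.out h5.relIndex_Z0
      (fun z hz => ⟨(lcs_le _ 1 hz).1, fun g hg => h5.comm_Z0 hg hz⟩) fun z hz =>
        ⟨le_normalizerIn h.le (h.center_le hz), fun g hg => hz.2 g hg.1⟩).resolve_right
      fun e => hwb ((e.ge hw).2 b hb).symm
  have cY : zeta S 2 = Y := by
    have h2 : Y ≤ zeta S 2 := fun v hv => mem_zeta_two.2 ⟨h5.le_S hv, fun g hg =>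
      cZ ▸ commutator_mem_comm (hY hg hv)⟩
    by_contra h3
    obtain ⟨g, -, e⟩ := exists_sup_zpowers_of_relIndex_dvd (zeta_le S 2)
      (relIndex_dvd_of_lt h.hS (lt_of_le_of_ne h2 (Ne.symm h3)) (zeta_le S 2) h5.cardY h5.card)
    exact hyZ (h5.Z0_le (cZ ▸ commutator_mem_of_sup_zpowers₂ (le_normalizer_center S) e
      (fun b hb => (mem_zeta_two.1 hb).2) hxN.1 hb₀))
  have hK : ⁅N, N⁆ ⊔ zpowers y ≤ Y := sup_le (h5.Z0_le.trans h5.ZY) (zpowers_le.2 hy)
  have nK : S ≤ normalizer ((⁅N, N⁆ ⊔ zpowers y : Subgroup Ω) : Set Ω) :=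
    le_normalizer_iff_commutator_le_right.2 (commutator_le.2 fun g hg v hv =>
      mem_sup_left (hY hg (hK hv)))
  have cL : L 1 = ⁅N, N⁆ ⊔ zpowers y := by
    refine le_antisymm (commutator_le.2 fun a ha b hb => commutator_mem_of_sup_zpowers₂ nK
      (h5.sup_N hb₀ hb₀N) (fun n hn g hg => commutator_mem_of_sup_zpowers
        (normalizerIn_le.trans nK) (h5.sup_Y hxN hxY)
        (fun v hv => commutator_mem_comm (mem_sup_left (hY hg hv))) ?_ hn) ha hb)
      (sup_le (commutator_mono normalizerIn_le normalizerIn_le)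
        (zpowers_le.2 (commutator_mem_commutator hxN.1 hb₀)))
    exact commutator_mem_comm (commutator_mem_of_sup_zpowers nK (h5.sup_N hb₀ hb₀N)
      (fun n hn => mem_sup_left (commutator_mem_commutator hn hxN))
      (commutator_mem_comm (mem_sup_right (mem_zpowers y))) hg)
  have hLY : L 1 ≤ Y := cL ▸ hK
  have hZL : ⁅N, N⁆ ≤ L 1 := cL ▸ le_sup_left
  have cardL : Nat.card (L 1) = p ^ 2 := by
    have h2 := commutator_bilin h5.norm_Z0 hxN.1 S.one_mem hb₀ S.one_mem (fun g hg => hY hg hy)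
      (by simp) (by simp) (by simp) p 1
    rw [zpow_natCast, h5.pow x hx] at h2
    rw [cL, card_sup_zpowers (h5.norm_Z0 (h5.le_S hy)) (fun h' => hyZ (h5.Z0_le h'))
      (by simpa using h2), h5.cardZ0, sq]
  have iL : (L 1).relIndex Y = p := by
    rw [relIndex_eq_of_card hLY (a := 2) (b := 1) hp.out.pos h5.cardY cardL, pow_one]
  have iZ : (⁅N, N⁆).relIndex (L 1) = p := by
    rw [relIndex_eq_of_card hZL (a := 1) (b := 1) hp.out.pos cardL (by rw [h5.cardZ0, pow_one]),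
      pow_one]
  have hwL : w ∉ L 1 := fun h' => hwb (mul_comm_of_sup_zpowers cL.symm
    (fun z hz => (h5.comm_Z0 hb hz).symm) hi.symm h')
  set C := S ⊓ centralizer (L 1 : Set Ω) with hC
  have hYC : Y ≤ C := fun v hv => ⟨h5.le_S hv, fun l hl => h5.comm_Y (hLY hl) hv⟩
  have hbC : b ∈ C := ⟨hb, fun l hl => mul_comm_of_sup_zpowers cL.symm
    (fun z hz => (h5.comm_Z0 hb hz).symm) hi.symm hl⟩
  have iC : C.relIndex S ∣ p := by
    rw [hC, inf_comm, inf_relIndex_right]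
    exact relIndex_centralizer_dvd_of_card_sq h.hS (lcs_le S 1) (fun _ => lcs_norm S 1) cardL
  have iY : Y.relIndex C ∣ p := relIndex_dvd_of_lt' h.hS hYC (lt_of_le_of_ne inf_le_left fun e =>
    hne b₀ hb₀ hb₀N ((e.ge hxN.1).2 y (commutator_mem_commutator hxN.1 hb₀)).symm) h5.cardY h5.card
  have sC : Y ⊔ zpowers b = C := sup_zpowers_eq_of_relIndex_prime hp.out
    (((Nat.dvd_prime hp.out).1 iY).resolve_left fun e => hbY (relIndex_eq_one.1 e hbC)) hYC hbC hbY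
  have mC : ∀ f, F.IsIso S S f → ∀ v ∈ C, f v ∈ C := fun f hf v hv =>
    ⟨hf.mapsTo v hv.1, ((hf.mor.mono (lcs_le S 1)).isIso_self
      (IsIso.map_lcs hf 1)).map_mem_centralizer hf.mor (lcs_le S 1) hv.1 hv.2⟩
  have mY : ∀ f, F.IsIso S S f → ∀ v ∈ Y, f v ∈ Y := fun f hf v => cY ▸ hf.map_mem_zeta
  have mZ : ∀ f, F.IsIso S S f → ∀ v ∈ ⁅N, N⁆, f v ∈ ⁅N, N⁆ := fun f hf v =>
    cZ ▸ IsIso.map_center hf
  have wc : ∀ f, F.IsIso S S f → ∃ c, Wt f C Y c := fun f hf =>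
    exists_wt h.hS hf.mor.isHomOn inf_le_left hYC iY (mC f hf) (mY f hf)
  -- the relations between the weights
  have key : ∀ f, F.IsIso S S f → ∀ a c d ω : ℤ, Wt f ⁅N, N⁆ ⊥ a → Wt f C Y c →
      f x * (x ^ d)⁻¹ ∈ C → f w * (w ^ ω)⁻¹ ∈ L 1 →
      (a : ZMod p) = d * (d * c) ∧ (a : ZMod p) = ω * c ∧ (a : ZMod p) ≠ 0 := by
    intro f hf a c d ω wa wc wd wω
    have hH := hf.mor.isHomOn
    obtain ⟨e, we⟩ := exists_wt h.hS hH (lcs_le S 1) hZL iZ.dvd (IsIso.map_lcs hf 1) (mZ f hf)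
    have hu : ⁅x, b⁆ ∈ L 1 := commutator_mem_commutator hxN.1 hb
    have hxu := hY hxN.1 (hv b hb)
    have hwb' := commutator_mem_comm (hY hb hwY)
    have r1 := wt_rel h.hS h5.norm_Z0 hH hf.mapsTo hxN.1 hb wd (wc b hbC) (we _ hu)
      (fun h' => h5.not_commutator_mem hx hxZ hb hbN (h5.Z_le (h5.Z0_le h')))
      (fun g hg => hY hg (hv b hb))
      (fun k hk => commutator_mem_of_sup_zpowers (inf_le_left.trans h5.norm_Z0) sC
        (fun v hv => commutator_mem_comm (hY hb hv)) (by simp) hk)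
      (fun v hv => hY hxN.1 hv) (fun k hk v hv => hY hk.1 hv)
    have r2 := wt_rel h.hS le_normalizer_of_normal hH hf.mapsTo hxN.1 (lcs_le S 1 hu) wd (we _ hu)
      (wa _ hxu) (fun h' => hne b hb hbN (commutatorElement_eq_one_iff_mul_comm.1 h'))
      (fun g hg => commutator_mem_of_comm _ (h5.comm_Z0 hg hxu))
      (fun k hk => commutator_mem_of_comm _ (hk.2 _ hu).symm)
      (fun z hz => commutator_mem_of_comm _ (h5.comm_Z0 hxN.1 hz))
      (fun k hk z hz => commutator_mem_of_comm _ (h5.comm_Z0 hk.1 hz))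
    have hne' : ⁅w, b⁆ ∉ (⊥ : Subgroup Ω) := fun h' =>
      hwb (commutatorElement_eq_one_iff_mul_comm.1 h')
    have r3 := wt_rel h.hS le_normalizer_of_normal hH hf.mapsTo hw.1.1 hb wω (wc b hbC)
      (wa _ hwb') hne' (fun g hg => commutator_mem_of_comm _ (h5.comm_Z0 hg hwb'))
      (fun l hl => commutator_mem_of_comm _ (hbC.2 l hl))
      (fun v hv => commutator_mem_of_comm _ (h5.comm_Y hwY hv))
      (fun l hl v hv => commutator_mem_of_comm _ (h5.comm_Y (hLY hl) hv))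
    exact ⟨by exact_mod_cast cast_eq_of_modEq (r2.trans (r1.mul_left d)),
      by exact_mod_cast cast_eq_of_modEq r3, mt (ZMod.intCast_zmod_eq_zero_iff_dvd _ _).1
        (not_dvd_of_wt (K := ⊥) (pow_eq_one_of_card_eq h5.cardZ0 hwb') (fun h' => hne'
          ((hf.mor.eq_one_iff (lcs_le _ 1 hwb').1).1 h')) (wa _ hwb'))⟩
  obtain rfl : p = 3 := by
    obtain ⟨a, ha⟩ := exists_inv_two hodd
    obtain ⟨f, hf, -, wa, e1, e2⟩ := h1 a 2 ha
    obtain ⟨c, hc⟩ := wc f hf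
    obtain ⟨r1, r2, r3⟩ := key f hf a c 2 1 wa hc (by simp [e1]) (by simp [e2])
    push_cast at r1 r2
    have h3 : ((3 : ℕ) : ZMod p) = 0 := mul_right_cancel₀ r3 (by
      push_cast; linear_combination 4 * r2 - r1)
    exact (Nat.prime_dvd_prime_iff_eq hp.out Nat.prime_three).1
      ((ZMod.natCast_eq_zero_iff _ _).1 h3)
  obtain ⟨τ, hτ, -, wa, e1, e2⟩ := h1 (-1) (-1) (by decide)
  have hYp : ∀ v ∈ Y, v ^ 3 ∈ L 1 := fun v hv =>
    have : Finite Y := finite_of_le h5.le_S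
    pow_mem_of_relIndex_prime (h.hS.to_le h5.le_S) hLY iL hv
  refine (exists_lt_of_neg h.hS hodd (Y := Y) (lt_of_le_of_ne hLY fun e => hwL (e.ge hwY)) h5.le_S
    hYp hτ (fun g hg => ?_) (fun f hf v hv => ?_) (fun f hf g hg => inv_mul_mem_lcs_of_chain h.hS
      h.sat inf_le_left hYC hLY iC iY iL.dvd (commutator_le_Phi S) mC mY
      (fun f hf => IsIso.map_lcs hf 1) hf hτ hg)).elim fun K hK => hfix K hK.1 hK.2.1 hK.2.2
  · obtain ⟨c, hc⟩ := wc τ hτ
    obtain ⟨-, r2, -⟩ := key τ hτ (-1) c (-1) 1 wa hc (by simp [e1]) (by simp [e2])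
    have : Finite C := finite_of_le inf_le_left
    have h2 := hc.of_modEq (e' := -1) ((ZMod.intCast_eq_intCast_iff _ _ 3).1 (by simpa using r2.symm))
      (fun v hv => pow_mem_of_relIndex_prime (h.hS.to_le inf_le_left) hYC
        (((Nat.dvd_prime hp.out).1 iY).resolve_left fun e => hbY (relIndex_eq_one.1 e hbC)) hv) b hbC
    refine ((show S ≤ negSub hτ.mor.isHomOn hτ.mapsTo _ hLY from ?_) hg).2
    refine (h5.sup_N hb hbN).ge.trans (sup_le ((h5.sup_Y hxN hxY).ge.trans (sup_le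
      (fun v hv => ⟨h5.le_S hv, mul_mem hv (mY τ hτ v hv)⟩) (zpowers_le.2 ⟨hxN.1, by simp [e1]⟩)))
      (zpowers_le.2 ⟨hb, ?_⟩))
    simpa [mul_assoc] using H9.conj_mem_of_mem_normalizer (h5.norm_Y hb) h2
  · have hH := hf.mor.isHomOn
    obtain ⟨c, hc⟩ := wc f hf
    obtain ⟨d, hd⟩ := exists_wt h.hS hH le_rfl inf_le_left iC hf.mapsTo (mC f hf)
    obtain ⟨ω, hω⟩ := exists_wt h.hS hH h5.le_S hLY iL.dvd (mY f hf) (IsIso.map_lcs hf 1)
    obtain ⟨a, ha⟩ := exists_wt h.hS hH (K := ⊥) (hZL.trans (lcs_le S 1)) bot_le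
      (by rw [relIndex_bot_left, h5.cardZ0]) (mZ f hf) fun v hv => by
        rw [mem_bot.1 hv, hH.map_one]; exact one_mem _
    obtain ⟨r1, r2, r3⟩ := key f hf a c d ω ha hc (hd x hxN.1) (hω w hwY)
    exact (hω.of_modEq ((ZMod.intCast_eq_intCast_iff ω 1 3).1
      (by exact_mod_cast zmod_three_key' a c d ω r1 r2 r3)) hYp).inv_mul_mem
      (fun g hg => lcs_norm S 1 (h5.le_S hg)) hv

theorem exists_abelian_of_card_five (hS : IsPGroup p S) (hF : F.IsSaturated p) (hodd : Odd p)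
    (h7 : p ≠ 7) (hc : Nat.card S = p ^ 5) (hO : F.core = ⊥) (hfoc : S ≤ F.focalSubgroup) :
    ¬ AbSmall p S := fun hno => by
  have hfix := noFix_of_focal hS hF hodd hc hno hfoc
  obtain ⟨z, hz, hz1, -, hzc⟩ := exists_mem_centralizer_ne_one hS hS le_normalizer fun e => by
    rw [e, card_bot] at hc
    exact (Nat.one_lt_pow (by omega) hp.out.one_lt).ne hc
  refine hz1 (hO.le ((hF.isNormal_of_essential hS (Q := S ⊓ centralizer (S : Set Ω))
    fun P hP => ?_).le_core ⟨hz, hzc⟩))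
  rcases hP with rfl | hP
  · exact ⟨inf_le_left, fun g hg x => IsIso.map_center hg⟩
  obtain ⟨M, h⟩ := exists_essCtx hS hF hP
  refine ⟨h.center_le, fun g hg x hx => ?_⟩
  rcases h.types hodd hc hno with (h1 | ⟨h1, h2⟩) | ⟨h1, h2⟩ | ⟨h1, h2, h3⟩
  · exact (h.false_of_card_sq h1 hodd h7 hc hno hfix).elim
  · rw [(h.center_eq_of_card_cube h1 h2).1] at hx ⊢
    exact IsIso.map_Phi hg hx
  · obtain ⟨Y, h5⟩ := (h.five0 hc h1 h2).exists_five
    exact (h.false_of_five h5 hodd hno hfix).elim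
  · exact h.map_center_of_card_four hc h1 h2 h3 hg hx

end Cfsg.Agent.H9
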